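import Groth.Agent.Lib.OX.HomTri
import Groth.Agent.Lib.OX.KFlat
import Groth.Agent.Lib.OX.Resolution
import Mathlib.CategoryTheory.Triangulated.Functor
import Mathlib.Algebra.Homology.DerivedCategory.Ext.ExtClass

/-!
# The triangle of `RHom(-, L)` on a short exact sequence of modules
-/

set_option autoImplicit false
set_option maxHeartbeats 1000000
set_option backward.isDefEq.respectTransparency false
set_option linter.style.haveILetI false
universe u

open CategoryTheory CategoryTheory.Limits CategoryTheory.Pretriangulated AlgebraicGeometry HomologicalComplex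

attribute [local instance] HasDerivedCategory.standard

namespace GrothLib.SkyDual15

open GrothLib.OX

variable {X : Scheme.{u}}

theorem Q_mapTriangle_cone {K L : CochainComplex X.Modules ℤ} (φ : K ⟶ L) :
    DerivedCategory.Q.mapTriangle.obj (CochainComplex.mappingCone.triangle φ) ∈
      distTriang (DCoh.D X) :=
  (DerivedCategory.mem_distTriang_iff _).2 ⟨_, _, φ, ⟨Iso.refl _⟩⟩

/-- Third objects of distinguished triangles on isomorphic morphisms agree. -/
theorem nonempty_obj₃_iso {C : Type*} [Category C] [Preadditive C] [HasZeroObject C] [HasShift C ℤ]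
    [∀ n : ℤ, (shiftFunctor C n).Additive] [Pretriangulated C] (T T' : Triangle C) (hT : T ∈ distTriang C)
    (hT' : T' ∈ distTriang C) (a : T.obj₁ ≅ T'.obj₁) (b : T.obj₂ ≅ T'.obj₂)
    (h : T.mor₁ ≫ b.hom = a.hom ≫ T'.mor₁) : Nonempty (T.obj₃ ≅ T'.obj₃) :=
  ⟨Triangle.π₃.mapIso (isoTriangleOfIso₁₂ T T' hT hT' a b h)⟩

/-- **`RHom(-, L)` turns a short exact sequence into a triangle.** -/
theorem exists_rhom_triangle {S : ShortComplex X.Modules} (hS : S.ShortExact) (h₂ : FlatMod.IsFlat S.X₂)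
    (L : DCoh.D X)
    [DCoh.HasLTensorCx ((single X.Modules (ComplexShape.up ℤ) 0).obj S.X₁)]
    [DCoh.HasRSheafHom ((single X.Modules (ComplexShape.up ℤ) 0).obj S.X₁)]
    [DCoh.HasLTensorCx ((single X.Modules (ComplexShape.up ℤ) 0).obj S.X₂)]
    [DCoh.HasRSheafHom ((single X.Modules (ComplexShape.up ℤ) 0).obj S.X₂)]
    [DCoh.HasLTensorCx ((single X.Modules (ComplexShape.up ℤ) 0).obj S.X₃)]
    [DCoh.HasRSheafHom ((single X.Modules (ComplexShape.up ℤ) 0).obj S.X₃)] :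
    ∃ T : Triangle (DCoh.D X), T ∈ distTriang (DCoh.D X) ∧
      Nonempty (T.obj₁ ≅ (DCoh.RSheafHom ((single X.Modules (ComplexShape.up ℤ) 0).obj S.X₃)).obj L) ∧
      Nonempty (T.obj₂ ≅ (DCoh.RSheafHom ((single X.Modules (ComplexShape.up ℤ) 0).obj S.X₂)).obj L) ∧
      Nonempty (T.obj₃ ≅ (DCoh.RSheafHom ((single X.Modules (ComplexShape.up ℤ) 0).obj S.X₁)).obj L) := by
  let s := single X.Modules (ComplexShape.up ℤ) 0
  let φ := DerivedCategory.singleFunctorIsoCompQ X.Modules 0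
  obtain ⟨P, q, hP, -, hq, -⟩ := exists_kflat_resolution (s.obj S.X₁)
  let α : P ⟶ s.obj S.X₂ := q ≫ s.map S.f
  let C := CochainComplex.mappingCone α
  have hC : DCoh.IsKFlat C := isKFlat_mappingCone α hP (isKFlat_single _ h₂ 0)
  let T₁ := DerivedCategory.Q.mapTriangle.obj (CochainComplex.mappingCone.triangle α)
  obtain ⟨e₃⟩ := nonempty_obj₃_iso T₁ hS.singleTriangle (Q_mapTriangle_cone α) hS.singleTriangle_distinguished
    (asIso (DerivedCategory.Q.map q) ≪≫ (φ.app S.X₁).symm) (φ.app S.X₂).symm (by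
      show DerivedCategory.Q.map α ≫ φ.inv.app S.X₂ =
        (DerivedCategory.Q.map q ≫ φ.inv.app S.X₁) ≫ (DerivedCategory.singleFunctor X.Modules 0).map S.f
      rw [Category.assoc, Functor.map_comp, Category.assoc]
      exact congrArg (_ ≫ ·) (φ.inv.naturality S.f))
  let t := (CochainComplex.mappingCone.triangle α).invRotate
  let γ : C⟦(-1 : ℤ)⟧ ⟶ P := t.mor₁
  have hγ : DerivedCategory.Q.mapTriangle.obj t ∈ distTriang (DCoh.D X) :=
    isomorphic_distinguished _ (inv_rot_of_distTriang _ (Q_mapTriangle_cone α)) _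
      ((DerivedCategory.Q.mapTriangleInvRotateIso).app (CochainComplex.mappingCone.triangle α)).symm
  obtain ⟨e₂⟩ := nonempty_obj₃_iso (DerivedCategory.Q.mapTriangle.obj (CochainComplex.mappingCone.triangle γ))
    (DerivedCategory.Q.mapTriangle.obj t) (Q_mapTriangle_cone γ) hγ (Iso.refl _) (Iso.refl _)
    ((Category.comp_id _).trans (Category.id_comp _).symm)
  let K₂ := CochainComplex.mappingCone γ
  let K₃ := (C⟦(-1 : ℤ)⟧)⟦(1 : ℤ)⟧
  let i₁ : DerivedCategory.Q.obj P ≅ DerivedCategory.Q.obj (s.obj S.X₁) := asIso (DerivedCategory.Q.map q)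
  let i₂ : DerivedCategory.Q.obj K₂ ≅ DerivedCategory.Q.obj (s.obj S.X₂) := e₂
  let i₃ : DerivedCategory.Q.obj K₃ ≅ DerivedCategory.Q.obj (s.obj S.X₃) :=
    DerivedCategory.Q.mapIso ((shiftFunctorCompIsoId (CochainComplex X.Modules ℤ) (-1 : ℤ) 1 (by omega)).app C) ≪≫
      e₃ ≪≫ φ.app S.X₃
  have hP₂ : DCoh.IsKFlat K₂ := isKFlat_mappingCone γ (isKFlat_shift hC _) hP
  have hP₃ : DCoh.IsKFlat K₃ := isKFlat_shift (isKFlat_shift hC _) _
  haveI := hasLTensorCx P
  haveI := hasLTensorCx K₂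
  haveI := hasLTensorCx K₃
  haveI := hasRSheafHom_of_isKFlat P hP
  haveI := hasRSheafHom_of_isKFlat K₂ hP₂
  haveI := hasRSheafHom_of_isKFlat K₃ hP₃
  obtain ⟨I, r, hr, hI, -⟩ := KInj.exists_kInjective_resolution _ (DerivedCategory.Q.objPreimage L)
  haveI := hI
  let eL : DerivedCategory.Q.obj I ≅ L :=
    (asIso (DerivedCategory.Q.map r)).symm ≪≫ DerivedCategory.Q.objObjPreimageIso L
  refine ⟨_, homTriangle_distinguished (S := coneShortComplex γ) (coneSplitting γ) I, ?_, ?_, ?_⟩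
  · obtain ⟨v⟩ := nonempty_RSheafHom_value K₃ hP₃ I
    obtain ⟨c⟩ := nonempty_RSheafHom_congr i₃
    exact ⟨v.symm ≪≫ (DCoh.RSheafHom K₃).mapIso eL ≪≫ c.app L⟩
  · obtain ⟨v⟩ := nonempty_RSheafHom_value K₂ hP₂ I
    obtain ⟨c⟩ := nonempty_RSheafHom_congr i₂
    exact ⟨v.symm ≪≫ (DCoh.RSheafHom K₂).mapIso eL ≪≫ c.app L⟩
  · obtain ⟨v⟩ := nonempty_RSheafHom_value P hP I
    obtain ⟨c⟩ := nonempty_RSheafHom_congr i₁
    exact ⟨v.symm ≪≫ (DCoh.RSheafHom P).mapIso eL ≪≫ c.app L⟩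

end GrothLib.SkyDual15
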