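import Groth.Agent.Lib.SkyDual15.Scheme
import Groth.Agent.Lib.GrpSchField.GrpDim
import Groth.Agent.Lib.WeilExt.Extend

/-!
# `RHom(k(0), O)` on an abelian variety
-/

set_option autoImplicit false
set_option backward.isDefEq.respectTransparency false
set_option linter.style.haveILetI false
universe u

open CategoryTheory CategoryTheory.Limits AlgebraicGeometry MonObj GrpObj CartesianMonoidalCategory MonoidalCategory

attribute [local instance] HasDerivedCategory.standard

namespace GrothLib.SkyDual15

theorem rhom_unit {k : Type u} [Field k] (A : Over (Spec (CommRingCat.of k))) [GrpObj A] [IsProper A.hom]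
    [Smooth A.hom] (g : ℕ) (hg : topologicalKrullDim ↥A.left = g)
    [DCoh.HasLTensorCx ((HomologicalComplex.single A.left.Modules (ComplexShape.up ℤ) 0).obj ((Scheme.Modules.pushforward η[A].left).obj (Coh.structureModule (Spec (CommRingCat.of k)))))]
    [DCoh.HasRSheafHom ((HomologicalComplex.single A.left.Modules (ComplexShape.up ℤ) 0).obj ((Scheme.Modules.pushforward η[A].left).obj (Coh.structureModule (Spec (CommRingCat.of k)))))] :
    (∀ p : ℤ, p ≠ (g : ℤ) → IsZero (DCoh.HD ((DCoh.RSheafHom ((HomologicalComplex.single A.left.Modules (ComplexShape.up ℤ) 0).obj ((Scheme.Modules.pushforward η[A].left).obj (Coh.structureModule (Spec (CommRingCat.of k)))))).obj (DCoh.inD A.left (Coh.structureModule A.left))) p)) ∧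
      Nonempty (DCoh.HD ((DCoh.RSheafHom ((HomologicalComplex.single A.left.Modules (ComplexShape.up ℤ) 0).obj ((Scheme.Modules.pushforward η[A].left).obj (Coh.structureModule (Spec (CommRingCat.of k)))))).obj (DCoh.inD A.left (Coh.structureModule A.left))) (g : ℤ) ≅ ((Scheme.Modules.pushforward η[A].left).obj (Coh.structureModule (Spec (CommRingCat.of k))))) := by
  haveI : IsLocallyNoetherian A.left := LocallyOfFiniteType.isLocallyNoetherian A.hom
  let e : Spec (CommRingCat.of k) ⟶ A.left := η[A].left
  haveI : IsClosedImmersion e := by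
    haveI : IsClosedImmersion (e ≫ A.hom) := by rw [show e ≫ A.hom = 𝟙 _ from Over.w η[A]]; infer_instance
    exact IsClosedImmersion.of_comp e A.hom
  have hreg : ∀ x : A.left, IsRegularLocalRing (A.left.presheaf.stalk x) := fun x =>
    WeilExt.isRegularLocalRing_stalk_of_smooth A.hom (fun s =>
      Groth.Agent.Lib.AlgMisc.GeomRegAt.isRegularLocalRing_stalk_Spec_field k s) x
  have hcl : IsClosed ({e (IsLocalRing.closedPoint k)} : Set A.left) := by
    have : ({e (IsLocalRing.closedPoint k)} : Set A.left) = Set.range e := by
      refine Set.ext fun x => ⟨fun h => ⟨_, h.symm⟩, ?_⟩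
      rintro ⟨w, rfl⟩
      obtain rfl : w = IsLocalRing.closedPoint k := Subsingleton.elim (α := PrimeSpectrum k) _ _
      rfl
    rw [this]; exact e.isClosedEmbedding.isClosed_range
  haveI : DCoh.HasLTensorCx ((HomologicalComplex.single A.left.Modules (ComplexShape.up ℤ) 0).obj ((Scheme.Modules.pushforward e).obj (Coh.structureModule (Spec (CommRingCat.of k))))) :=
    ‹DCoh.HasLTensorCx ((HomologicalComplex.single A.left.Modules (ComplexShape.up ℤ) 0).obj ((Scheme.Modules.pushforward η[A].left).obj (Coh.structureModule (Spec (CommRingCat.of k)))))›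
  haveI : DCoh.HasRSheafHom ((HomologicalComplex.single A.left.Modules (ComplexShape.up ℤ) 0).obj ((Scheme.Modules.pushforward e).obj (Coh.structureModule (Spec (CommRingCat.of k))))) :=
    ‹DCoh.HasRSheafHom ((HomologicalComplex.single A.left.Modules (ComplexShape.up ℤ) 0).obj ((Scheme.Modules.pushforward η[A].left).obj (Coh.structureModule (Spec (CommRingCat.of k)))))›
  exact rhom_point e hreg g hg.le g ((GrpSchField.ringKrullDim_stalk_eq A hcl).trans hg)

end GrothLib.SkyDual15
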