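import Groth.Agent.Lib.ProjFormula.Map
import Groth.Agent.Lib.RegSecEuler20.Step
import Groth.Agent.Lib.VA.Tensor
import Groth.Agent.Lib.UnitsThick26.FlatIdeal
import Groth.Prelude.Def_ClSub2

/-!
# Tensoring `O → e_* O` with `e_* O`
-/

set_option autoImplicit false
set_option maxHeartbeats 1000000
set_option backward.isDefEq.respectTransparency false
set_option linter.style.haveILetI false
universe u

open CategoryTheory CategoryTheory.Limits AlgebraicGeometry Opposite

namespace GrothLib.SkyDual15

variable {X Z : Scheme.{u}} (e : Z ⟶ X) [IsClosedImmersion e]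

/-- `e_*O ⊗ O → e_*O ⊗ e_*O` is an isomorphism. -/
theorem isIso_tensor_unitToPush :
    IsIso (((DCoh.tensorBi (X := X)).obj ((Scheme.Modules.pushforward e).obj (Coh.structureModule Z))).map
      (ClSub.unitToPush e)) := by
  let π := ClSub.unitToPush e
  haveI : Epi π := UnitsThick26.epi_unitToPush e
  let N := (Scheme.Modules.pushforward e).obj (Coh.structureModule Z)
  let F := (DCoh.tensorBi (X := X)).obj N
  let ι := kernel.ι π
  have h0 : F.map ι = 0 := by
    refine ProjFormula.hom_ext_tmul fun U s t => ?_
    let t : Γ(kernel π, U) := t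
    let m : Γ(X, U) := ι.app U t
    have hm : (e.app U).hom m = 0 :=
      (ConcreteCategory.congr_hom (congrArg (fun f => f.app U) (kernel.condition π)) t :)
    show (F.map ι).app U (VA.tm s t) = 0
    rw [RegSecEuler20.tm_natural₂]
    let s' : Γ(N, U) := s
    let one : Γ(Coh.structureModule X, U) := (1 : Γ(X, U))
    have hs : m • s' = 0 := by
      show (e.app U).hom m * (show Γ(Z, e ⁻¹ᵁ U) from s') = 0
      rw [hm, zero_mul]
    have hv : (ι.app U t : Γ(Coh.structureModule X, U)) = m • one := (mul_one m).symm
    show VA.tm s' (ι.app U t) = 0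
    rw [hv, VA.tm_smul_right, ← VA.tm_smul_left, hs]
    exact (congrArg (fun x => VA.tm x one) (zero_smul Γ(X, U) s').symm).trans
      ((VA.tm_smul_left _ _ _).trans (zero_smul _ _))
  let S : ShortComplex X.Modules := ShortComplex.mk ι π (kernel.condition π)
  have hS : S.Exact := ShortComplex.exact_kernel π
  exact CokernelCofork.IsColimit.isIso_π (CokernelCofork.ofπ (F.map π) (f := F.map ι) (by rw [h0, zero_comp]))
    (isColimitCoforkMapOfIsColimit' F (kernel.condition π) hS.gIsCokernel) h0

end GrothLib.SkyDual15
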