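import Groth.Agent.Lib.SkyDual15.TriTest
import Groth.Agent.Lib.SkyDual15.KillPi
import Groth.Agent.Lib.SkyDual15.AbVar
import Groth.Agent.Lib.FMInv15.Main
import Groth.Agent.Lib.TorBC25.Splits
import Groth.Agent.Lib.RightAdj22.Coherent
import Groth.Agent.Lib.Poincare.Skyscraper
import Groth.Agent.Lib.QCoh.Qcqs
import Mathlib.Algebra.Homology.DerivedCategory.Ext.ExtClass

/-!
# The Fourier–Mukai transform of the derived dual of the ideal of the origin
-/

set_option autoImplicit false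
set_option maxHeartbeats 2000000
set_option backward.isDefEq.respectTransparency false
set_option linter.all false
universe u

open CategoryTheory CategoryTheory.Limits CategoryTheory.Pretriangulated AlgebraicGeometry HomologicalComplex
open MonoidalCategory CartesianMonoidalCategory
open GrothLib.Cube
open scoped MonObj

attribute [local instance] HasDerivedCategory.standard

noncomputable section

namespace GrothLib.SkyDual15

open GrothLib.OX

section Point

variable {k : Type u} [Field k] {X : Scheme.{u}} (e : Spec (CommRingCat.of k) ⟶ X)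

/-- A nonzero endomorphism of the structure sheaf of a point is invertible. -/
theorem isIso_end_point (v : Coh.structureModule (Spec (CommRingCat.of k)) ⟶ Coh.structureModule (Spec (CommRingCat.of k)))
    (hv : v ≠ 0) : IsIso v := by
  let w : (tilde.functor (CommRingCat.of k)).obj (ModuleCat.of k k) ⟶
      (tilde.functor (CommRingCat.of k)).obj (ModuleCat.of k k) := tildeSelf.hom ≫ v ≫ tildeSelf.inv
  have hvw : v = tildeSelf.inv ≫ w ≫ tildeSelf.hom := by simp [w]
  have hw : w ≠ 0 := fun h => hv (by rw [hvw, h, zero_comp, comp_zero])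
  obtain ⟨a, ha⟩ : ∃ a : ModuleCat.of k k ⟶ ModuleCat.of k k, (tilde.functor (CommRingCat.of k)).map a = w :=
    ⟨tilde.fullyFaithfulFunctor.preimage w, tilde.fullyFaithfulFunctor.map_preimage w⟩
  have h1 : a.hom (1 : k) ≠ 0 := fun h => hw (by
    rw [← ha, show a = 0 from ModuleCat.hom_ext (LinearMap.ext_ring h), Functor.map_zero])
  haveI : IsIso a := ⟨ModuleCat.ofHom (LinearMap.toSpanSingleton k k (a.hom 1)⁻¹), by
      ext; simpa [mul_comm] using mul_inv_cancel₀ h1, by
      refine ModuleCat.hom_ext (LinearMap.ext_ring ?_)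
      show a.hom (((1 : k) • (a.hom 1)⁻¹ : k)) = 1
      rw [one_smul, show (a.hom 1)⁻¹ = (a.hom 1)⁻¹ • (1 : k) by simp, map_smul, smul_eq_mul]
      exact inv_mul_cancel₀ h1⟩
  haveI : IsIso w := ha ▸ inferInstance
  rw [hvw]; infer_instance

/-- Two nonzero maps into a skyscraper differ by an automorphism. -/
theorem exists_iso_target (a b : Coh.structureModule X ⟶ (Scheme.Modules.pushforward e).obj (Coh.structureModule _))
    (ha : a ≠ 0) (hb : b ≠ 0) :
    ∃ σ : (Scheme.Modules.pushforward e).obj (Coh.structureModule (Spec (CommRingCat.of k))) ≅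
        (Scheme.Modules.pushforward e).obj (Coh.structureModule (Spec (CommRingCat.of k))), a ≫ σ.hom = b := by
  let adj := Scheme.Modules.pullbackPushforwardAdjunction e
  let p := pullUnitIso e
  let E := adj.homEquiv (Coh.structureModule X) (Coh.structureModule (Spec (CommRingCat.of k)))
  have hne : ∀ c, c ≠ 0 → p.inv ≫ E.symm c ≠ 0 := fun c hc h => hc (by
    have h' : E.symm c = 0 := by
      rw [← cancel_epi p.inv, h, comp_zero]
    rw [← E.apply_symm_apply c, h']
    simp [E, Adjunction.homEquiv_unit])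
  haveI := isIso_end_point _ (hne a ha)
  haveI := isIso_end_point _ (hne b hb)
  let u := inv (p.inv ≫ E.symm a) ≫ p.inv ≫ E.symm b
  refine ⟨(Scheme.Modules.pushforward e).mapIso (asIso u), ?_⟩
  have h1 : E.symm a ≫ u = E.symm b := by
    rw [← cancel_epi p.inv, ← Category.assoc, IsIso.hom_inv_id_assoc]
  calc a ≫ (Scheme.Modules.pushforward e).map u = E (E.symm a) ≫ (Scheme.Modules.pushforward e).map u := by
        rw [E.apply_symm_apply]
    _ = E (E.symm a ≫ u) := (adj.homEquiv_naturality_right (E.symm a) u).symm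
    _ = b := by rw [h1, E.apply_symm_apply]

variable [IsClosedImmersion e]

/-- **The triangle of the derived dual of a point**, with nonzero first map as soon as such a map exists. -/
theorem exists_dual_triangle (g : ℕ)
    [DCoh.HasLTensorCx ((single X.Modules (ComplexShape.up ℤ) 0).obj ((Scheme.Modules.pushforward e).obj (Coh.structureModule _)))]
    [DCoh.HasRSheafHom ((single X.Modules (ComplexShape.up ℤ) 0).obj ((Scheme.Modules.pushforward e).obj (Coh.structureModule _)))]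
    [DCoh.HasLTensorCx ((single X.Modules (ComplexShape.up ℤ) 0).obj (kernel (ClSub.unitToPush e)))]
    [DCoh.HasRSheafHom ((single X.Modules (ComplexShape.up ℤ) 0).obj (kernel (ClSub.unitToPush e)))]
    (h0 : ∀ p : ℤ, p ≠ (g : ℤ) → IsZero (DCoh.HD ((DCoh.RSheafHom ((single X.Modules (ComplexShape.up ℤ) 0).obj
      ((Scheme.Modules.pushforward e).obj (Coh.structureModule _)))).obj (DCoh.inD X (Coh.structureModule X))) p))
    (hgi : Nonempty (DCoh.HD ((DCoh.RSheafHom ((single X.Modules (ComplexShape.up ℤ) 0).obj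
      ((Scheme.Modules.pushforward e).obj (Coh.structureModule _)))).obj (DCoh.inD X (Coh.structureModule X))) (g : ℤ) ≅
      (Scheme.Modules.pushforward e).obj (Coh.structureModule _))) :
    ∃ T : Triangle (DCoh.D X), T ∈ distTriang (DCoh.D X) ∧
      Nonempty (T.obj₁ ≅ (DCoh.inD X ((Scheme.Modules.pushforward e).obj (Coh.structureModule _)))⟦-(g : ℤ)⟧) ∧
      Nonempty (T.obj₂ ≅ DCoh.inD X (Coh.structureModule X)) ∧
      Nonempty (T.obj₃ ≅ (DCoh.RSheafHom ((single X.Modules (ComplexShape.up ℤ) 0).obj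
        (kernel (ClSub.unitToPush e)))).obj (DCoh.inD X (Coh.structureModule X))) ∧
      ((∃ h : (DCoh.inD X ((Scheme.Modules.pushforward e).obj (Coh.structureModule _)))⟦-(g : ℤ)⟧ ⟶
        DCoh.inD X (Coh.structureModule X), h ≠ 0) → T.mor₁ ≠ 0) := by
  let ke := (Scheme.Modules.pushforward e).obj (Coh.structureModule (Spec (CommRingCat.of k)))
  haveI : Epi (ClSub.unitToPush e) := UnitsThick26.epi_unitToPush e
  let S : ShortComplex X.Modules :=
    ShortComplex.mk (kernel.ι (ClSub.unitToPush e)) (ClSub.unitToPush e) (kernel.condition _)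
  have hS : S.ShortExact := { exact := ShortComplex.exact_kernel (ClSub.unitToPush e) }
  haveI := hasLTensorCx (unitCx X)
  haveI := hasRSheafHom (unitCx X)
  haveI : DCoh.HasLTensorCx ((single X.Modules (ComplexShape.up ℤ) 0).obj S.X₂) := ‹DCoh.HasLTensorCx (unitCx X)›
  haveI : DCoh.HasRSheafHom ((single X.Modules (ComplexShape.up ℤ) 0).obj S.X₂) := ‹DCoh.HasRSheafHom (unitCx X)›
  haveI : DCoh.HasLTensorCx ((single X.Modules (ComplexShape.up ℤ) 0).obj S.X₁) :=
    ‹DCoh.HasLTensorCx ((single X.Modules (ComplexShape.up ℤ) 0).obj (kernel (ClSub.unitToPush e)))›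
  haveI : DCoh.HasRSheafHom ((single X.Modules (ComplexShape.up ℤ) 0).obj S.X₁) :=
    ‹DCoh.HasRSheafHom ((single X.Modules (ComplexShape.up ℤ) 0).obj (kernel (ClSub.unitToPush e)))›
  haveI : DCoh.HasLTensorCx ((single X.Modules (ComplexShape.up ℤ) 0).obj S.X₃) :=
    ‹DCoh.HasLTensorCx ((single X.Modules (ComplexShape.up ℤ) 0).obj ((Scheme.Modules.pushforward e).obj (Coh.structureModule _)))›
  haveI : DCoh.HasRSheafHom ((single X.Modules (ComplexShape.up ℤ) 0).obj S.X₃) :=
    ‹DCoh.HasRSheafHom ((single X.Modules (ComplexShape.up ℤ) 0).obj ((Scheme.Modules.pushforward e).obj (Coh.structureModule _)))›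
  obtain ⟨T, hT, ⟨a⟩, ⟨b⟩, hc, htest⟩ := exists_rhom_triangle_test hS (flat_structureModule X)
    (DCoh.inD X (Coh.structureModule X))
  obtain ⟨ub⟩ := RightAdj22.nonempty_RSheafHom_unit (DCoh.inD X (Coh.structureModule X))
  -- the first vertex
  let D := (DCoh.RSheafHom ((single X.Modules (ComplexShape.up ℤ) 0).obj ke)).obj (DCoh.inD X (Coh.structureModule X))
  haveI : D.IsGE (g : ℤ) := (DerivedCategory.isGE_iff _ _).2 fun i hi => h0 i (by omega)
  haveI : D.IsLE (g : ℤ) := (DerivedCategory.isLE_iff _ _).2 fun i hi => h0 i (by omega)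
  obtain ⟨M, ⟨eM⟩⟩ := DerivedCategory.exists_iso_singleFunctor_obj_of_isGE_of_isLE D (g : ℤ)
  let eN : M ≅ ke :=
    ((DerivedCategory.singleFunctorCompHomologyFunctorIso X.Modules (g : ℤ)).app M).symm ≪≫
      (DerivedCategory.homologyFunctor X.Modules (g : ℤ)).mapIso eM.symm ≪≫ hgi.some
  let sh := ((DerivedCategory.singleFunctors X.Modules).shiftIso (-(g : ℤ)) g 0 (by omega)).app ke
  let i₁ : T.obj₁ ≅ (DCoh.inD X ke)⟦-(g : ℤ)⟧ :=
    a ≪≫ eM ≪≫ (DerivedCategory.singleFunctor X.Modules (g : ℤ)).mapIso eN ≪≫ sh.symm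
  refine ⟨T, hT, ⟨i₁⟩, ⟨b ≪≫ ub⟩, hc, fun ⟨h, hne⟩ hmor => hne ?_⟩
  -- the test module
  have hiso : IsIso (((DCoh.tensorBi (X := X)).obj S.X₃).map S.g) := isIso_tensor_unitToPush e
  let T0 := (single X.Modules (ComplexShape.up ℤ) (g : ℤ)).obj ke
  haveI := isIso_tensor_single_map (M := ke) (g : ℤ) S.g hiso
  let u : (DCoh.tensorBi (X := X)).flip.obj (Coh.structureModule X) ≅ 𝟭 X.Modules :=
    (tensorBraiding (X := X)).app _ ≪≫ tensorUnitNatIso
  let j : ((DCoh.tensorCx (X := X)).obj T0).obj ((single X.Modules (ComplexShape.up ℤ) 0).obj ke) ≅ T0 :=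
    (asIso (((DCoh.tensorCx (X := X)).obj T0).map ((single X.Modules (ComplexShape.up ℤ) 0).map S.g))).symm ≪≫
      (singleIso T0 (Coh.structureModule X)).symm ≪≫
      (NatIso.mapHomologicalComplex u (ComplexShape.up ℤ)).app T0 ≪≫
      (Functor.mapHomologicalComplexIdIso X.Modules (ComplexShape.up ℤ)).app T0
  let j' : DerivedCategory.Q.obj (((DCoh.tensorCx (X := X)).obj T0).obj ((single X.Modules (ComplexShape.up ℤ) 0).obj ke)) ≅
      (DCoh.inD X ke)⟦-(g : ℤ)⟧ :=
    DerivedCategory.Q.mapIso j ≪≫ ((DerivedCategory.singleFunctorIsoCompQ X.Modules (g : ℤ)).app ke).symm ≪≫ sh.symm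
  have := htest hiso hmor (g : ℤ) (j'.hom ≫ h)
  rw [← cancel_epi j'.hom, this, comp_zero]

end Point

section Transform

variable {k : Type u} [Field k] {Y : Scheme.{u}} (e : Spec (CommRingCat.of k) ⟶ Y) [IsClosedImmersion e]

theorem unitToPush_ne_zero : ClSub.unitToPush e ≠ 0 := by
  intro h
  have h1 : ((e.app ⊤).hom (1 : Γ(Y, ⊤)) : Γ(Spec (CommRingCat.of k), e ⁻¹ᵁ ⊤)) = 0 :=
    (congrArg (fun f => f.app ⊤ (1 : Γ(Y, ⊤))) h :)
  rw [map_one] at h1
  have h2 := congrArg (Scheme.ΓSpecIso (CommRingCat.of k)).hom.hom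
    (show (1 : Γ(Spec (CommRingCat.of k), ⊤)) = 0 from h1)
  rw [map_one, map_zero] at h2
  exact one_ne_zero (α := k) h2

/-- A triangle functor sending a nonzero map to a nonzero map between the transforms of the structure sheaf
and of a point sends the third vertex to the shifted ideal. -/
theorem nonempty_obj₃_ideal {C : Type*} [Category C] [Preadditive C] [HasZeroObject C] [HasShift C ℤ]
    [∀ n : ℤ, (shiftFunctor C n).Additive] [Pretriangulated C] (F : C ⥤ DCoh.D Y) [F.CommShift ℤ]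
    [F.IsTriangulated] (T : Triangle C) (hT : T ∈ distTriang C) (g : ℕ) (hne : F.map T.mor₁ ≠ 0)
    (i₁ : F.obj T.obj₁ ≅ (DCoh.inD Y (Coh.structureModule Y))⟦-(g : ℤ)⟧)
    (i₂ : F.obj T.obj₂ ≅ (DCoh.inD Y ((Scheme.Modules.pushforward e).obj (Coh.structureModule _)))⟦-(g : ℤ)⟧) :
    Nonempty (F.obj T.obj₃ ≅ (DCoh.inD Y (kernel (ClSub.unitToPush e)))⟦-((g : ℤ) - 1)⟧) := by
  haveI : Epi (ClSub.unitToPush e) := UnitsThick26.epi_unitToPush e
  let S : ShortComplex Y.Modules :=
    ShortComplex.mk (kernel.ι (ClSub.unitToPush e)) (ClSub.unitToPush e) (kernel.condition _)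
  have hS : S.ShortExact := { exact := ShortComplex.exact_kernel (ClSub.unitToPush e) }
  let T' := (Triangle.shiftFunctor (DCoh.D Y) (-(g : ℤ))).obj hS.singleTriangle.rotate
  have hT' : T' ∈ distTriang (DCoh.D Y) :=
    Triangle.shift_distinguished _ (rot_of_distTriang _ hS.singleTriangle_distinguished) _
  let G := DerivedCategory.singleFunctor Y.Modules 0 ⋙ shiftFunctor (DCoh.D Y) (-(g : ℤ))
  obtain ⟨a₀, ha₀⟩ := G.map_surjective (i₁.inv ≫ F.map T.mor₁ ≫ i₂.hom)
  obtain ⟨b₀, hb₀⟩ := G.map_surjective (X := Coh.structureModule Y)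
    (Y := (Scheme.Modules.pushforward e).obj (Coh.structureModule _)) T'.mor₁
  have ha : a₀ ≠ 0 := fun h => hne (by
    rw [h, Functor.map_zero] at ha₀
    rw [← cancel_epi i₁.inv, ← cancel_mono i₂.hom, Category.assoc, ← ha₀, comp_zero, zero_comp])
  have hb : b₀ ≠ 0 := fun h => unitToPush_ne_zero e (by
    rw [h, Functor.map_zero] at hb₀
    have h2 : G.map (ClSub.unitToPush e) = 0 := by
      have h3 : ((-(g : ℤ)).negOnePow) • G.map (ClSub.unitToPush e) = 0 := hb₀.symm
      exact (smul_eq_zero_iff_eq _).1 h3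
    exact G.map_injective (h2.trans (G.map_zero _ _).symm))
  obtain ⟨σ, hσ⟩ := exists_iso_target e a₀ b₀ ha hb
  obtain ⟨w⟩ := nonempty_obj₃_iso (F.mapTriangle.obj T) T' (F.map_distinguished T hT) hT' i₁ (i₂ ≪≫ G.mapIso σ) (by
    show F.map T.mor₁ ≫ i₂.hom ≫ G.map σ.hom = i₁.hom ≫ T'.mor₁
    rw [← hb₀, ← hσ, Functor.map_comp, ha₀, Category.assoc, Category.assoc, Iso.hom_inv_id_assoc])
  exact ⟨w ≪≫ ((shiftFunctorAdd' (DCoh.D Y) (1 : ℤ) (-(g : ℤ)) (-((g : ℤ) - 1)) (by omega)).app _).symm⟩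

end Transform

section Sky

variable {X Y Z : Scheme.{u}}

/-- A concentrated direct image is a shifted skyscraper. -/
theorem nonempty_rpush_sky (f : X ⟶ Y) (i : Z ⟶ Y) [IsClosedImmersion i]
    [HasInjectiveResolutions X.Modules] [DCoh.HasRpush f] (P : X.Modules) (N : Z.Modules) (g : ℕ)
    (hz : ∀ q : ℕ, q ≠ g → IsZero ((Coh.Rpush f q).obj P))
    (hg : Nonempty ((Coh.Rpush f g).obj P ≅ (Coh.push i).obj N)) :
    Nonempty ((DCoh.Rpush f).obj (DCoh.inD X P) ≅
      (DCoh.inD Y ((Scheme.Modules.pushforward i).obj N))⟦-(g : ℤ)⟧) := by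
  haveI : DCoh.HasRpush i := KInj.hasRightDerivedFunctor _
  obtain ⟨e⟩ := FMInv15.nonempty_rpush_concentrated f i P N g hz hg
  exact ⟨e ≪≫ (rpushIsoRres i).app _ ≪≫ ((SiteDer.Rres (rmor i)).commShiftIso (-(g : ℤ))).app _ ≪≫
    (shiftFunctor (DCoh.D Y) (-(g : ℤ))).mapIso (KSix19.ProjPush.rresPushDIso i (DCoh.inD Z N) ≪≫
      ((Scheme.Modules.pushforward i).mapDerivedCategorySingleFunctor 0).app N)⟩

/-- The transform of the structure sheaf is the direct image of the kernel. -/
theorem nonempty_transform_structure (p : X ⟶ Y) (q : X ⟶ Z) [DCoh.HasLpull p] {N : X.Modules}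
    (hN : PicF.IsInvertible N) [DCoh.HasLTensorMod N] [DCoh.HasRpush q] :
    Nonempty ((DCoh.Lpull p ⋙ DCoh.LTensorMod N ⋙ DCoh.Rpush q).obj (DCoh.inD Y (Coh.structureModule Y)) ≅
      (DCoh.Rpush q).obj (DCoh.inD X N)) := by
  obtain ⟨_, _, _⟩ := FMTrans15.exact_tF' hN
  obtain ⟨t⟩ := FMTrans15.nonempty_ltensor_iso N
  obtain ⟨l⟩ := TorBC25.nonempty_lpull_structure p
  exact ⟨(DCoh.Rpush q).mapIso ((DCoh.LTensorMod N).mapIso l ≪≫ t.app _ ≪≫
    ((Euler.tF N).mapDerivedCategorySingleFunctor 0).app _ ≪≫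
    (DerivedCategory.singleFunctor X.Modules 0).mapIso (tensorUnitNatIso.app N))⟩

end Sky

variable {k : Type u} [Field k] {A At : Over (Spec (CommRingCat.of k))} [GrpObj A] [IsProper A.hom]
  [Smooth A.hom] [GeometricallyConnected A.hom] [GrpObj At] [IsProper At.hom] [Smooth At.hom]
  [GeometricallyConnected At.hom]
  {φ : ∀ T : Over (Spec (CommRingCat.of k)), PicF.Cl (PicF.XT A.hom T) → (T ⟶ At)}

/-- **The Fourier–Mukai transform of the derived dual of the ideal of the origin.** -/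
theorem nonempty_fourierMukai_dual_ideal (hφ : AbDual.IsDualAV Scheme.fppfPrecoverage A At φ) {g : ℕ}
    (hg : topologicalKrullDim A.left = g) {P : (A ⊗ At).left.Modules} (hP : PicF.IsInvertible P)
    (hξ : AbDual.IsPoincareCl A At φ (PicF.cl P))
    [DCoh.HasLpull (fst A At).left] [DCoh.HasLTensorMod P] [DCoh.HasRpush (snd A At).left]
    [DCoh.HasLTensorCx ((single A.left.Modules (ComplexShape.up ℤ) 0).obj (kernel (ClSub.unitToPush η[A].left)))]
    [DCoh.HasRSheafHom ((single A.left.Modules (ComplexShape.up ℤ) 0).obj (kernel (ClSub.unitToPush η[A].left)))] :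
    Nonempty ((DCoh.Lpull (fst A At).left ⋙ DCoh.LTensorMod P ⋙ DCoh.Rpush (snd A At).left).obj
        ((DCoh.RSheafHom ((single A.left.Modules (ComplexShape.up ℤ) 0).obj (kernel (ClSub.unitToPush η[A].left)))).obj
          (DCoh.inD A.left (Coh.structureModule A.left))) ≅
      (DCoh.inD At.left (kernel (ClSub.unitToPush η[At].left)))⟦-((g : ℤ) - 1)⟧) := by
  haveI := Dual.geometricallyIntegral_of_abScheme A
  haveI := Dual.geometricallyIntegral_of_abScheme At
  let O₀ := Coh.structureModule (Spec (CommRingCat.of k))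
  let e : Spec (CommRingCat.of k) ⟶ A.left := η[A].left
  let e' : Spec (CommRingCat.of k) ⟶ At.left := η[At].left
  haveI : IsClosedImmersion e := isClosedImmersion_of_comp_eq_id A.hom e (Over.w η[A])
  haveI : IsClosedImmersion e' := isClosedImmersion_of_comp_eq_id At.hom e' (Over.w η[At])
  have hc := hasCls_clsMod (X := (A ⊗ At).left) hP
  haveI := RpushSupp20.hasInjectiveResolutions (A ⊗ At).left
  haveI := RpushSupp20.hasInjectiveResolutions (At ⊗ A).left
  -- the transposed transform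
  let P' := (Scheme.Modules.pullback (Bidual.swap At A).left).obj P
  have hP' : HasCls P' (pull (Bidual.swap At A).left (clsMod hP)) := hc.pullback _
  haveI : DCoh.HasLpull (fst At A).left := OX.hasLpull _
  haveI : DCoh.HasLTensorMod P' := OX.hasLTensorMod P'
  haveI : DCoh.HasRpush (snd At A).left := KInj.hasRightDerivedFunctor _
  haveI : DCoh.HasLpull ((𝟙 At)⁻¹).left := OX.hasLpull _
  let Φ := DCoh.Lpull (fst A At).left ⋙ DCoh.LTensorMod P ⋙ DCoh.Rpush (snd A At).left
  let Ψ := DCoh.Lpull (fst At A).left ⋙ DCoh.LTensorMod P' ⋙ DCoh.Rpush (snd At A).left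
  let ke := (Scheme.Modules.pushforward e).obj O₀
  let ke' := (Scheme.Modules.pushforward e').obj O₀
  let OA := DCoh.inD A.left (Coh.structureModule A.left)
  let OB := DCoh.inD At.left (Coh.structureModule At.left)
  obtain ⟨z1, z2, -⟩ := Skyscraper.exists_main hφ hg hc hξ
  obtain ⟨w1, w2⟩ := FMInv15.exists_fst hφ hg hc hξ
  obtain ⟨r1⟩ := nonempty_rpush_sky (snd A At).left e' P O₀ g z1 z2
  obtain ⟨r2⟩ := nonempty_rpush_sky (snd At A).left e P' O₀ g w1 w2
  obtain ⟨t1⟩ := nonempty_transform_structure (fst A At).left (snd A At).left hP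
  obtain ⟨t2⟩ := nonempty_transform_structure (fst At A).left (snd At A).left hP'.1
  let ΦO : Φ.obj OA ≅ (DCoh.inD At.left ke')⟦-(g : ℤ)⟧ := t1 ≪≫ r1
  have hOB : DCoh.IsQCohD OB := FMBC15.isQCohD_inD _ (Cohom.isQuasicoherent_structureModule _)
  obtain ⟨eInv⟩ := FMInv15.nonempty_inversion_dual hφ hg hP hξ hP'
  obtain ⟨linv⟩ := TorBC25.nonempty_lpull_structure ((𝟙 At)⁻¹).left
  let Φk : Φ.obj ((DCoh.inD A.left ke)⟦-(g : ℤ)⟧) ≅ OB⟦-(g : ℤ)⟧ :=
    Φ.mapIso (t2 ≪≫ r2).symm ≪≫ eInv.app ⟨OB, hOB⟩ ≪≫ (shiftFunctor (DCoh.D At.left) (-(g : ℤ))).mapIso linv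
  -- quasi-coherence
  haveI : CompactSpace A.left := QuasiCompact.compactSpace_of_compactSpace A.hom
  haveI : CompactSpace (A ⊗ At).left :=
    QuasiCompact.compactSpace_of_compactSpace (pullback.fst A.hom At.hom ≫ A.hom)
  haveI : QuasiCompact (snd A At).left := inferInstanceAs (QuasiCompact (pullback.snd A.hom At.hom))
  haveI : QuasiSeparated (snd A At).left := inferInstanceAs (QuasiSeparated (pullback.snd A.hom At.hom))
  have hq : ∀ M : DCoh.D A.left, DCoh.IsQCohD M → DCoh.IsQCohD (Φ.obj M) := fun M hM =>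
    FMInv15.isQCohD_rpush (snd A At).left (FMBC15.isQCohD_pull_twist (fst A At).left hP hM)
  have hK : DCoh.IsQCohD ((DCoh.inD A.left ke)⟦-(g : ℤ)⟧) :=
    FMInv15.isQCohD_inD_shift _ (by
      haveI : (Coh.structureModule (Spec (CommRingCat.of k))).IsQuasicoherent := Cohom.isQuasicoherent_structureModule _
      exact QCoh.isQuasicoherent_pushforward e O₀) _
  have hA : DCoh.IsQCohD OA := FMBC15.isQCohD_inD _ (Cohom.isQuasicoherent_structureModule _)
  haveI := FMInv15.isEquivalence_fourierMukai hφ hP hξ hq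
  let qB : ObjectProperty (DCoh.D At.left) := DCoh.IsQCohD
  let qA : ObjectProperty (DCoh.D A.left) := DCoh.IsQCohD
  let L : qA.FullSubcategory ⥤ qB.FullSubcategory := qB.lift (qA.ι ⋙ Φ) fun M => hq M.obj M.property
  -- a triangulated model of the transform
  obtain ⟨_, _, _⟩ := FMTrans15.exact_tF' hP
  haveI : DCoh.HasRpush (fst A At).left := KInj.hasRightDerivedFunctor _
  obtain ⟨adj₀⟩ := OX.nonempty_lpullAdj (fst A At).left
  let adj := adj₀.ofNatIsoRight (rpushIsoRres (fst A At).left)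
  letI := TorBC25.lpullCommShift (fst A At).left adj
  haveI := TorBC25.isTriangulated_lpull (fst A At).left adj
  obtain ⟨tP⟩ := FMTrans15.nonempty_ltensor_iso P
  let Φ' := DCoh.Lpull (fst A At).left ⋙ (Euler.tF P).mapDerivedCategory ⋙ OX.RR (snd A At).left
  let ν : Φ ≅ Φ' := Functor.isoWhiskerLeft _ (Functor.isoWhiskerRight tP _ ≪≫
    Functor.isoWhiskerLeft _ (rpushIsoRres (snd A At).left))
  let MK : qA.FullSubcategory := ⟨(DCoh.inD A.left ke)⟦-(g : ℤ)⟧, hK⟩
  let MA : qA.FullSubcategory := ⟨OA, hA⟩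
  have hν : ∀ (a : (DCoh.inD A.left ke)⟦-(g : ℤ)⟧ ⟶ OA), Φ'.map a = 0 → Φ.map a = Φ.map 0 := fun a ha => by
    rw [← cancel_mono (ν.hom.app OA), ν.hom.naturality, ν.hom.naturality, ha, Φ'.map_zero]
  have hinj : ∀ a : (DCoh.inD A.left ke)⟦-(g : ℤ)⟧ ⟶ OA, Φ'.map a = 0 → a = 0 := fun a ha => by
    have h := L.map_injective (X := MK) (Y := MA) (a₁ := ObjectProperty.homMk a)
      (a₂ := ObjectProperty.homMk 0) (ObjectProperty.hom_ext _ (hν a ha))
    exact congrArg InducedCategory.Hom.hom h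
  -- a nonzero map
  have hex : ∃ h : (DCoh.inD A.left ke)⟦-(g : ℤ)⟧ ⟶ OA, h ≠ 0 := by
    let π := (shiftFunctor (DCoh.D At.left) (-(g : ℤ))).map
      ((DerivedCategory.singleFunctor At.left.Modules 0).map (ClSub.unitToPush e'))
    obtain ⟨h, hh⟩ := L.map_surjective (X := MK) (Y := MA)
      (ObjectProperty.homMk (show (L.obj MK).obj ⟶ (L.obj MA).obj from Φk.hom ≫ π ≫ ΦO.inv))
    refine ⟨h.hom, fun h0 => unitToPush_ne_zero e' ?_⟩
    have h1 : Φ.map h.hom = Φk.hom ≫ π ≫ ΦO.inv := congrArg (fun f : L.obj MK ⟶ L.obj MA => f.hom) hh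
    have h1' : Φ.map h.hom = 0 := by
      rw [← cancel_mono (ν.hom.app OA), ν.hom.naturality, h0, Φ'.map_zero, comp_zero, zero_comp]
    have h2 : π = 0 := by
      rw [← cancel_epi Φk.hom, ← cancel_mono ΦO.inv, Category.assoc, ← h1, h1', comp_zero, zero_comp]
    exact (DerivedCategory.singleFunctor At.left.Modules 0).map_injective
      ((shiftFunctor (DCoh.D At.left) (-(g : ℤ))).map_injective (h2.trans (by simp)))
  -- the dual triangle
  haveI := hasLTensorCx ((single A.left.Modules (ComplexShape.up ℤ) 0).obj ke)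
  haveI := hasRSheafHom ((single A.left.Modules (ComplexShape.up ℤ) 0).obj ke)
  haveI : DCoh.HasLTensorCx ((single A.left.Modules (ComplexShape.up ℤ) 0).obj ((Scheme.Modules.pushforward η[A].left).obj (Coh.structureModule (Spec (CommRingCat.of k))))) :=
    ‹DCoh.HasLTensorCx ((single A.left.Modules (ComplexShape.up ℤ) 0).obj ke)›
  haveI : DCoh.HasRSheafHom ((single A.left.Modules (ComplexShape.up ℤ) 0).obj ((Scheme.Modules.pushforward η[A].left).obj (Coh.structureModule (Spec (CommRingCat.of k))))) :=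
    ‹DCoh.HasRSheafHom ((single A.left.Modules (ComplexShape.up ℤ) 0).obj ke)›
  haveI : DCoh.HasLTensorCx ((single A.left.Modules (ComplexShape.up ℤ) 0).obj (kernel (ClSub.unitToPush e))) :=
    ‹DCoh.HasLTensorCx ((single A.left.Modules (ComplexShape.up ℤ) 0).obj (kernel (ClSub.unitToPush η[A].left)))›
  haveI : DCoh.HasRSheafHom ((single A.left.Modules (ComplexShape.up ℤ) 0).obj (kernel (ClSub.unitToPush e))) :=
    ‹DCoh.HasRSheafHom ((single A.left.Modules (ComplexShape.up ℤ) 0).obj (kernel (ClSub.unitToPush η[A].left)))›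
  obtain ⟨h0, hgi⟩ := rhom_unit A g hg
  obtain ⟨T, hT, ⟨a⟩, ⟨b⟩, ⟨c⟩, hmor⟩ := exists_dual_triangle e g h0 hgi
  have hne : Φ'.map T.mor₁ ≠ 0 := fun h => hmor hex (by
    have h4 := hinj (a.inv ≫ T.mor₁ ≫ b.hom) (by rw [Φ'.map_comp, Φ'.map_comp, h, zero_comp, comp_zero])
    rw [← cancel_epi a.inv, ← cancel_mono b.hom, Category.assoc, h4, comp_zero, zero_comp])
  obtain ⟨w⟩ := nonempty_obj₃_ideal e' Φ' T hT g hne
    ((ν.app _).symm ≪≫ Φ.mapIso a ≪≫ Φk) ((ν.app _).symm ≪≫ Φ.mapIso b ≪≫ ΦO)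
  exact ⟨Φ.mapIso c.symm ≪≫ ν.app _ ≪≫ w⟩

end GrothLib.SkyDual15
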