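import Groth.Agent.Lib.SkyDual15.Tri
import Groth.Agent.Lib.SkyDual15.AbVar
import Groth.Agent.Lib.OX.LocFreeTensor
import Groth.Agent.Lib.RightAdj22.Coherent
import Groth.Agent.Lib.UnitsThick26.FlatIdeal
import Groth.Prelude.Def_ClSub2

/-!
# The derived dual of the ideal of the unit point
-/

set_option autoImplicit false
set_option maxHeartbeats 1000000
set_option backward.isDefEq.respectTransparency false
set_option linter.style.haveILetI false
universe u

open CategoryTheory CategoryTheory.Limits CategoryTheory.Pretriangulated AlgebraicGeometry HomologicalComplex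
open MonObj GrpObj CartesianMonoidalCategory MonoidalCategory

attribute [local instance] HasDerivedCategory.standard

namespace GrothLib.SkyDual15

open GrothLib.OX DerivedCategory.HomologySequence

variable {k : Type u} [Field k] (A : Over (Spec (CommRingCat.of k))) [GrpObj A] [IsProper A.hom] [Smooth A.hom]

/-- The triangle `RHom(k(0), O) → O → RHom(I₀, O)`. -/
theorem exists_ideal_triangle
    [DCoh.HasLTensorCx ((single A.left.Modules (ComplexShape.up ℤ) 0).obj (kernel (ClSub.unitToPush η[A].left)))]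
    [DCoh.HasRSheafHom ((single A.left.Modules (ComplexShape.up ℤ) 0).obj (kernel (ClSub.unitToPush η[A].left)))]
    [DCoh.HasLTensorCx ((single A.left.Modules (ComplexShape.up ℤ) 0).obj ((Scheme.Modules.pushforward η[A].left).obj (Coh.structureModule (Spec (CommRingCat.of k)))))]
    [DCoh.HasRSheafHom ((single A.left.Modules (ComplexShape.up ℤ) 0).obj ((Scheme.Modules.pushforward η[A].left).obj (Coh.structureModule (Spec (CommRingCat.of k)))))] :
    ∃ T : Triangle (DCoh.D A.left), T ∈ distTriang (DCoh.D A.left) ∧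
      Nonempty (T.obj₁ ≅ (DCoh.RSheafHom ((single A.left.Modules (ComplexShape.up ℤ) 0).obj ((Scheme.Modules.pushforward η[A].left).obj (Coh.structureModule (Spec (CommRingCat.of k)))))).obj (DCoh.inD A.left (Coh.structureModule A.left))) ∧
      Nonempty (T.obj₂ ≅ DCoh.inD A.left (Coh.structureModule A.left)) ∧
      Nonempty (T.obj₃ ≅ (DCoh.RSheafHom ((single A.left.Modules (ComplexShape.up ℤ) 0).obj (kernel (ClSub.unitToPush η[A].left)))).obj (DCoh.inD A.left (Coh.structureModule A.left))) := by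
  let e : Spec (CommRingCat.of k) ⟶ A.left := η[A].left
  haveI he : IsClosedImmersion e := by
    haveI : IsClosedImmersion (e ≫ A.hom) := by rw [show e ≫ A.hom = 𝟙 _ from Over.w η[A]]; infer_instance
    exact IsClosedImmersion.of_comp e A.hom
  haveI : IsClosedImmersion η[A].left := he
  haveI := UnitsThick26.epi_unitToPush η[A].left
  let S : ShortComplex A.left.Modules :=
    ShortComplex.mk (kernel.ι (ClSub.unitToPush η[A].left)) (ClSub.unitToPush η[A].left) (kernel.condition _)
  have hS : S.ShortExact := { exact := ShortComplex.exact_kernel (ClSub.unitToPush η[A].left) }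
  haveI := hasLTensorCx (unitCx A.left)
  haveI := hasRSheafHom (unitCx A.left)
  haveI : DCoh.HasLTensorCx ((single A.left.Modules (ComplexShape.up ℤ) 0).obj S.X₂) := ‹DCoh.HasLTensorCx (unitCx A.left)›
  haveI : DCoh.HasRSheafHom ((single A.left.Modules (ComplexShape.up ℤ) 0).obj S.X₂) := ‹DCoh.HasRSheafHom (unitCx A.left)›
  haveI : DCoh.HasLTensorCx ((single A.left.Modules (ComplexShape.up ℤ) 0).obj S.X₁) :=
    ‹DCoh.HasLTensorCx ((single A.left.Modules (ComplexShape.up ℤ) 0).obj (kernel (ClSub.unitToPush η[A].left)))›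
  haveI : DCoh.HasRSheafHom ((single A.left.Modules (ComplexShape.up ℤ) 0).obj S.X₁) :=
    ‹DCoh.HasRSheafHom ((single A.left.Modules (ComplexShape.up ℤ) 0).obj (kernel (ClSub.unitToPush η[A].left)))›
  haveI : DCoh.HasLTensorCx ((single A.left.Modules (ComplexShape.up ℤ) 0).obj S.X₃) :=
    ‹DCoh.HasLTensorCx ((single A.left.Modules (ComplexShape.up ℤ) 0).obj ((Scheme.Modules.pushforward η[A].left).obj (Coh.structureModule (Spec (CommRingCat.of k)))))›
  haveI : DCoh.HasRSheafHom ((single A.left.Modules (ComplexShape.up ℤ) 0).obj S.X₃) :=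
    ‹DCoh.HasRSheafHom ((single A.left.Modules (ComplexShape.up ℤ) 0).obj ((Scheme.Modules.pushforward η[A].left).obj (Coh.structureModule (Spec (CommRingCat.of k)))))›
  obtain ⟨T, hT, h₁, ⟨h₂⟩, h₃⟩ := exists_rhom_triangle hS (flat_structureModule A.left)
    (DCoh.inD A.left (Coh.structureModule A.left))
  obtain ⟨u⟩ := RightAdj22.nonempty_RSheafHom_unit (DCoh.inD A.left (Coh.structureModule A.left))
  exact ⟨T, hT, h₁, ⟨h₂ ≪≫ u⟩, h₃⟩

/-- The cohomology of the derived dual of `I₀`. -/
theorem rhom_ideal (g : ℕ) (hg : topologicalKrullDim ↥A.left = g) (hg2 : 2 ≤ g)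
    [DCoh.HasLTensorCx ((single A.left.Modules (ComplexShape.up ℤ) 0).obj (kernel (ClSub.unitToPush η[A].left)))]
    [DCoh.HasRSheafHom ((single A.left.Modules (ComplexShape.up ℤ) 0).obj (kernel (ClSub.unitToPush η[A].left)))] :
    Nonempty (DCoh.HD ((DCoh.RSheafHom ((single A.left.Modules (ComplexShape.up ℤ) 0).obj (kernel (ClSub.unitToPush η[A].left)))).obj (DCoh.inD A.left (Coh.structureModule A.left))) 0 ≅ Coh.structureModule A.left) ∧
    Nonempty (DCoh.HD ((DCoh.RSheafHom ((single A.left.Modules (ComplexShape.up ℤ) 0).obj (kernel (ClSub.unitToPush η[A].left)))).obj (DCoh.inD A.left (Coh.structureModule A.left))) ((g : ℤ) - 1) ≅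
      (Scheme.Modules.pushforward η[A].left).obj (Coh.structureModule (Spec (CommRingCat.of k)))) ∧
    (∀ p : ℤ, p ≠ 0 → p ≠ (g : ℤ) - 1 → IsZero (DCoh.HD ((DCoh.RSheafHom ((single A.left.Modules (ComplexShape.up ℤ) 0).obj (kernel (ClSub.unitToPush η[A].left)))).obj (DCoh.inD A.left (Coh.structureModule A.left))) p)) := by
  haveI := hasLTensorCx ((single A.left.Modules (ComplexShape.up ℤ) 0).obj ((Scheme.Modules.pushforward η[A].left).obj (Coh.structureModule (Spec (CommRingCat.of k)))))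
  haveI := hasRSheafHom ((single A.left.Modules (ComplexShape.up ℤ) 0).obj ((Scheme.Modules.pushforward η[A].left).obj (Coh.structureModule (Spec (CommRingCat.of k)))))
  obtain ⟨T, hT, ⟨a⟩, ⟨b⟩, ⟨c⟩⟩ := exists_ideal_triangle A
  obtain ⟨h0, ⟨hgi⟩⟩ := rhom_unit A g hg
  let H := fun n : ℤ => DerivedCategory.homologyFunctor A.left.Modules n
  have z₁ : ∀ p : ℤ, p ≠ g → IsZero ((H p).obj T.obj₁) := fun p hp => (h0 p hp).of_iso ((H p).mapIso a)
  have z₂ : ∀ p : ℤ, p ≠ 0 → IsZero ((H p).obj T.obj₂) := fun p hp => by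
    refine IsZero.of_iso ?_ ((H p).mapIso b)
    rcases lt_or_gt_of_ne hp with h | h
    · exact DerivedCategory.isZero_of_isGE _ 0 p h
    · exact DerivedCategory.isZero_of_isLE _ 0 p h
  refine ⟨?_, ?_, fun p hp hp' => ?_⟩
  · have hm : Mono ((H 0).map T.mor₂) :=
      (mono_homologyMap_mor₂_iff T hT 0).2 ((z₁ 0 (by omega)).eq_of_src _ _)
    have he : Epi ((H 0).map T.mor₂) :=
      (epi_homologyMap_mor₂_iff T hT 0 1 (by omega)).2 ((z₁ 1 (by omega)).eq_of_tgt _ _)
    haveI := isIso_of_mono_of_epi ((H 0).map T.mor₂)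
    exact ⟨(H 0).mapIso c.symm ≪≫ (asIso ((H 0).map T.mor₂)).symm ≪≫ (H 0).mapIso b ≪≫
      (DerivedCategory.singleFunctorCompHomologyFunctorIso A.left.Modules 0).app _⟩
  · have hd1 : (g : ℤ) - 1 + 1 = g := by omega
    have hm : Mono (δ T ((g : ℤ) - 1) g hd1) :=
      (exact₃ T hT ((g : ℤ) - 1) g hd1).mono_g ((z₂ _ (by omega)).eq_of_src _ _)
    have he : Epi (δ T ((g : ℤ) - 1) g hd1) :=
      (exact₁ T hT ((g : ℤ) - 1) g hd1).epi_f ((z₂ _ (by omega)).eq_of_tgt _ _)
    haveI := isIso_of_mono_of_epi (δ T ((g : ℤ) - 1) g hd1)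
    exact ⟨(H _).mapIso c.symm ≪≫ asIso (δ T ((g : ℤ) - 1) g hd1) ≪≫ (H _).mapIso a ≪≫ hgi⟩
  · refine IsZero.of_iso ?_ ((H p).mapIso c).symm
    exact (exact₃ T hT p (p + 1) rfl).isZero_of_both_zeros ((z₂ p hp).eq_of_src _ _)
      ((z₁ (p + 1) (by omega)).eq_of_tgt _ _)

end GrothLib.SkyDual15
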