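import Groth.Agent.Lib.DualRing.RegStep
import Groth.Agent.Lib.RegSeqLoc.Basic
import Groth.Agent.Lib.DCxRing.FromSingle
import Groth.Agent.Lib.DCxRHom.HomCx
import Groth.Agent.Lib.DualRing.HomHD

/-!
# `RHom` from a quotient by a regular sequence into the ring
-/

set_option autoImplicit false
set_option linter.style.haveILetI false
universe u

open CategoryTheory CategoryTheory.Limits RingTheory.Sequence

attribute [local instance] HasDerivedCategory.standard

namespace GrothLib.SkyDual15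

open GrothLib.DualRing

variable {B : Type u} [CommRing B]

theorem subsingleton_EH_ring (i : ℤ) (hi : i ≠ 0) :
    Subsingleton (EH (Dual.inD B B) (Dual.inD B B) i) := by
  rcases lt_or_gt_of_ne hi with hi | hi
  · refine ⟨fun f g => ?_⟩
    haveI h1 : DerivedCategory.TStructure.t.IsLE (Dual.inD B B) 0 := inferInstanceAs ((Dual.inD B B).IsLE 0)
    haveI : DerivedCategory.TStructure.t.IsGE (Dual.inD B B) 0 := inferInstanceAs ((Dual.inD B B).IsGE 0)
    have h2 := DerivedCategory.TStructure.t.isGE_shift (Dual.inD B B) 0 i (-i) (by omega)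
    have hz := fun φ : EH (Dual.inD B B) (Dual.inD B B) i =>
      DerivedCategory.TStructure.t.zero_of_isLE_of_isGE φ 0 (-i) (by omega) h1 h2
    exact (hz f).trans (hz g).symm
  · letI := CategoryTheory.HasExt.standard (ModuleCat.{u} B)
    obtain ⟨k, rfl⟩ := Int.eq_ofNat_of_zero_le (show 0 ≤ i by omega)
    obtain ⟨j, rfl⟩ : ∃ j, k = j + 1 := ⟨k - 1, by omega⟩
    haveI : Projective (ModuleCat.of B B) := (IsProjective.iff_projective (R := B) B).1 inferInstance
    haveI : Subsingleton (Abelian.Ext (ModuleCat.of B B) (ModuleCat.of B B) (j + 1)) :=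
      subsingleton_of_forall_eq 0 fun e => Abelian.Ext.eq_zero_of_projective e
    exact Abelian.Ext.homEquiv.symm.subsingleton

/-- `Hom_D(B, B) = B`. -/
theorem nonempty_EH_ring : Nonempty (EH (Dual.inD B B) (Dual.inD B B) 0 ≃ₗ[B] B) := by
  let F := DerivedCategory.singleFunctor (ModuleCat.{u} B) 0
  let f₀ : B →ₗ[B] (Dual.inD B B ⟶ Dual.inD B B) := LinearMap.toSpanSingleton B _ (𝟙 _)
  have hf₀ : Function.Bijective f₀ := by
    constructor
    · intro a b hab
      have h : F.map (a • 𝟙 (ModuleCat.of B B)) = F.map (b • 𝟙 (ModuleCat.of B B)) := by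
        rw [F.map_smul, F.map_smul, F.map_id]
        exact hab
      simpa using LinearMap.congr_fun (congrArg ModuleCat.Hom.hom (F.map_injective h)) (1 : B)
    · intro φ
      obtain ⟨f, rfl⟩ := F.map_surjective φ
      refine ⟨f.hom (1 : B), ?_⟩
      have hf : f = (f.hom (1 : B)) • 𝟙 (ModuleCat.of B B) :=
        ModuleCat.hom_ext (LinearMap.ext_ring (show f.hom (1 : B) = (f.hom (1 : B)) * 1 from (mul_one _).symm))
      exact ((congrArg F.map hf).trans ((F.map_smul _ _).trans (congrArg _ (F.map_id _)))).symm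
  exact ⟨(Linear.homCongr B (Iso.refl _) ((shiftFunctorZero (Dual.D B) ℤ).app (Dual.inD B B))).trans
    (LinearEquiv.ofBijective f₀ hf₀).symm⟩

theorem ext_quot_of_regular : ∀ (n : ℕ) (rs : List B), rs.length = n → IsWeaklyRegular B rs →
    (∀ i : ℤ, i ≠ (n : ℤ) → Subsingleton (EH (Dual.inD B B) (Dual.inD B (B ⧸ Ideal.ofList rs)) i)) ∧
      Nonempty (EH (Dual.inD B B) (Dual.inD B (B ⧸ Ideal.ofList rs)) (n : ℤ) ≃ₗ[B] (B ⧸ Ideal.ofList rs)) := by
  intro n
  induction n with
  | zero =>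
    intro rs hlen _
    have h0 : Ideal.ofList rs = (⊥ : Ideal B) := by
      rw [List.length_eq_zero_iff.1 hlen, Ideal.ofList_nil]
    rw [h0]
    let c : (B ⧸ (⊥ : Ideal B)) ≃ₗ[B] B := Submodule.quotEquivOfEqBot ⊥ rfl
    let cD : Dual.inD B (B ⧸ (⊥ : Ideal B)) ≅ Dual.inD B B :=
      (DerivedCategory.singleFunctor (ModuleCat.{u} B) 0).mapIso c.toModuleIso
    refine ⟨fun i hi => ?_, ?_⟩
    · haveI := subsingleton_EH_ring (B := B) i (by simpa using hi)
      exact (Iso.homCongr cD (Iso.refl _)).subsingleton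
    · obtain ⟨e⟩ := nonempty_EH_ring (B := B)
      exact ⟨(Linear.homCongr B cD (Iso.refl _)).trans (e.trans c.symm)⟩
  | succ n ih =>
    intro rs hlen hw
    have hdl : (rs.take n).length = n := by simp [hlen]
    have hw' := hw
    rw [RegSeqLoc.isWeaklyRegular_iff_mem] at hw'
    obtain ⟨hT, ⟨e⟩⟩ := ih (rs.take n) hdl (by
      have h2 := hw
      rw [← List.take_append_drop n rs, isWeaklyRegular_append_iff] at h2
      exact h2.1)
    have hn : n < rs.length := by omega
    have hreg : IsSMulRegular (B ⧸ Ideal.ofList (rs.take n)) rs[n] := by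
      rw [isSMulRegular_quotient_iff_mem_of_smul_mem]
      exact hw' n hn
    have hid : Ideal.ofList rs = Ideal.ofList (rs.take n) ⊔ Ideal.span {rs[n]} := by
      conv_lhs => rw [← List.take_length (l := rs), hlen, List.take_succ_eq_append_getElem hn]
      rw [Ideal.ofList_append, Ideal.ofList_singleton]
    obtain ⟨h1, h2⟩ := regular_step (Dual.inD B B) (Ideal.ofList (rs.take n)) rs[n] hreg n hT e
    rw [hid]
    exact ⟨fun i hi => h1 i (by push_cast at hi; omega), by push_cast; exact h2⟩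

/-- The cohomology of `RHom(B/(rs), B)`. -/
theorem HD_RHom_quot (rs : List B) (hw : IsWeaklyRegular B rs)
    (hL : DRing.HasFiniteInjDim B (Dual.inD B B)) (K : DRing.Cx B)
    (eK : DRing.toD K ≅ Dual.inD B (B ⧸ Ideal.ofList rs)) [DRing.HasRHomCx K] :
    (∀ i : ℤ, i ≠ (rs.length : ℤ) → Subsingleton (Dual.HD B ((DRing.RHomCx K).obj (Dual.inD B B)) i)) ∧
      Nonempty (Dual.HD B ((DRing.RHomCx K).obj (Dual.inD B B)) (rs.length : ℤ) ≃ₗ[B] (B ⧸ Ideal.ofList rs)) := by
  obtain ⟨a, b, I, hIv, hIinj, ⟨eI⟩⟩ := hL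
  haveI : I.IsKInjective := DR.isKInjective_of_termwiseInjective (fun j hj => hIv j (Or.inl hj)) hIinj
  obtain ⟨hT, ⟨e⟩⟩ := ext_quot_of_regular rs.length rs rfl hw
  obtain ⟨r⟩ := RH.rHom_value K I
  have key : ∀ i : ℤ, Nonempty (Dual.HD B ((DRing.RHomCx K).obj (Dual.inD B B)) i ≃ₗ[B]
      EH (Dual.inD B B) (Dual.inD B (B ⧸ Ideal.ofList rs)) i) := fun i => by
    obtain ⟨h⟩ := DualRing.exists_HD_homCx_equiv K I i
    exact ⟨((DerivedCategory.homologyFunctor (ModuleCat.{u} B) i).mapIso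
        ((DRing.RHomCx K).mapIso eI.symm ≪≫ r)).toLinearEquiv.trans
      (h.trans (Linear.homCongr B eK ((shiftFunctor (Dual.D B) i).mapIso eI)))⟩
  refine ⟨fun i hi => ?_, ?_⟩
  · haveI := hT i hi
    exact (key i).some.toEquiv.subsingleton
  · exact ⟨(key _).some.trans e⟩

end GrothLib.SkyDual15
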