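import Groth.Agent.Lib.OX.ExtZeroOpen
import Groth.Prelude.Def_CohB1

/-!
# Modules supported in an open
-/

set_option autoImplicit false
set_option backward.isDefEq.respectTransparency false
universe u

open CategoryTheory CategoryTheory.Limits AlgebraicGeometry TopologicalSpace Opposite

namespace GrothLib.SkyDual15

variable {U X : Scheme.{u}} (j : U ⟶ X) [IsOpenImmersion j]

/-- A module supported in a closed set lying in an open is the direct image of its restriction. -/
theorem isIso_unit_of_support (M : X.Modules) {C : Set X} (hC : IsClosed C) (hCj : C ⊆ Set.range j)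
    (hM : CohB1.support M ⊆ C) : IsIso ((Scheme.Modules.restrictAdjunction j).unit.app M) := by
  have hzero : ∀ {x : X}, x ∉ C → Subsingleton (M.presheaf.stalk x) := fun {x} hx =>
    not_not.1 fun h => hx (hM h)
  haveI : IsIso ((Scheme.Modules.restrictFunctor j).map ((Scheme.Modules.restrictAdjunction j).unit.app M)) := by
    have h := (Scheme.Modules.restrictAdjunction j).left_triangle_components M
    haveI : IsIso ((Scheme.Modules.restrictFunctor j).map ((Scheme.Modules.restrictAdjunction j).unit.app M) ≫
        (Scheme.Modules.restrictAdjunction j).counit.app ((Scheme.Modules.restrictFunctor j).obj M)) := by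
      rw [h]; infer_instance
    exact IsIso.of_isIso_comp_right _
      ((Scheme.Modules.restrictAdjunction j).counit.app ((Scheme.Modules.restrictFunctor j).obj M))
  refine (OX.isIso_iff _).2 fun x => ?_
  by_cases hx : x ∈ Set.range j
  · obtain ⟨y, rfl⟩ := hx
    haveI := OX.mono_stalk_map_of_restrict j ((Scheme.Modules.restrictAdjunction j).unit.app M) y inferInstance
    haveI := OX.epi_stalk_map_of_restrict j ((Scheme.Modules.restrictAdjunction j).unit.app M) y inferInstance
    exact isIso_of_mono_of_epi _
  · have hxC : x ∉ C := fun h => hx (hCj h)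
    let P := (Scheme.Modules.pushforward j).obj ((Scheme.Modules.restrictFunctor j).obj M)
    have h₁ : Subsingleton ((OX.stalk x).obj M) := hzero hxC
    have h₂ : Subsingleton (P.presheaf.stalk x) := by
      refine subsingleton_of_forall_eq 0 fun z => ?_
      obtain ⟨W, hW, m, rfl⟩ := TopCat.Presheaf.exists_germ_eq P.presheaf z
      let W' : X.Opens := W ⊓ ⟨Cᶜ, hC.isOpen_compl⟩
      rw [← TopCat.Presheaf.germ_res_apply P.presheaf (homOfLE (inf_le_left : W' ≤ W)) x ⟨hW, hxC⟩ m]
      suffices h : P.presheaf.map (homOfLE (inf_le_left : W' ≤ W)).op m = 0 by rw [h, map_zero]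
      refine TopCat.Presheaf.section_ext (C := Ab.{u}) (X := X.carrier) ⟨M.presheaf, M.isSheaf⟩ (j ''ᵁ (j ⁻¹ᵁ W')) _ _ ?_
      rintro _ ⟨y, hy, rfl⟩
      exact @Subsingleton.elim _ (hzero hy.2) _ _
    refine (ConcreteCategory.isIso_iff_bijective _).2 ⟨fun _ _ _ => @Subsingleton.elim _ h₁ _ _, fun b => ⟨0, ?_⟩⟩
    exact @Subsingleton.elim _ h₂ _ _

/-- Two modules supported in a closed subset of an open agree if their restrictions do. -/
theorem nonempty_iso_of_restrict (M N : X.Modules) {C : Set X} (hC : IsClosed C) (hCj : C ⊆ Set.range j)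
    (hM : CohB1.support M ⊆ C) (hN : CohB1.support N ⊆ C)
    (e : (Scheme.Modules.restrictFunctor j).obj M ≅ (Scheme.Modules.restrictFunctor j).obj N) :
    Nonempty (M ≅ N) := by
  haveI := isIso_unit_of_support j M hC hCj hM
  haveI := isIso_unit_of_support j N hC hCj hN
  exact ⟨asIso ((Scheme.Modules.restrictAdjunction j).unit.app M) ≪≫
    (Scheme.Modules.pushforward j).mapIso e ≪≫ (asIso ((Scheme.Modules.restrictAdjunction j).unit.app N)).symm⟩

end GrothLib.SkyDual15
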