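import Groth.Agent.Lib.SkyDual15.Ring
import Groth.Agent.Lib.SkyDual15.Support
import Groth.Agent.Lib.RHomInj22.AffineDuality
import Groth.Agent.Lib.RightAdj22.Supp
import Groth.Agent.Lib.ExtVanishReg20.Main
import Groth.Agent.Lib.DualRing.SchemeGor
import Groth.Agent.Lib.TorBC25.Splits
import Groth.Agent.Lib.KSix19.KoszulPerf
import Groth.Agent.Lib.RegSeqLoc.Scheme
import Groth.Agent.Lib.OX.Support
import Groth.Agent.Lib.AlgMisc.GeomRegAt
import Mathlib.RingTheory.KrullDimension.Regular

/-!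
# `RHom` from a point into the structure sheaf of a regular scheme
-/

set_option autoImplicit false
set_option maxHeartbeats 1000000
set_option backward.isDefEq.respectTransparency false
set_option linter.style.haveILetI false
universe u

open CategoryTheory CategoryTheory.Limits AlgebraicGeometry TopologicalSpace HomologicalComplex

attribute [local instance] HasDerivedCategory.standard

namespace GrothLib.SkyDual15

open GrothLib.OX RingTheory.Sequence

/-- The ring of a regular affine scheme has finite injective dimension. -/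
theorem hasFiniteInjDim_self (B : Type u) [CommRing B] [IsNoetherianRing B]
    [PreservesFiniteLimits (tilde.functor (CommRingCat.of B))]
    (hreg : ∀ x : Spec (CommRingCat.of B), IsRegularLocalRing ((Spec (CommRingCat.of B)).presheaf.stalk x))
    (d : ℕ) (hd : topologicalKrullDim (Spec (CommRingCat.of B)) ≤ d) :
    DRing.HasFiniteInjDim B (Dual.inD B B) := by
  refine ⟨0, d, DR.hasInjAmplitudeIn_of_cyclic _ 0 d fun I i hi => ?_⟩
  rcases hi with hi | hi
  · refine ⟨fun f g => ?_⟩
    haveI h1 : DerivedCategory.TStructure.t.IsLE (Dual.inD B (B ⧸ I)) 0 := inferInstanceAs ((Dual.inD B (B ⧸ I)).IsLE 0)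
    haveI : DerivedCategory.TStructure.t.IsGE (Dual.inD B B) 0 := inferInstanceAs ((Dual.inD B B).IsGE 0)
    have h2 := DerivedCategory.TStructure.t.isGE_shift (Dual.inD B B) 0 i (-i) (by omega)
    have hz := fun φ : Dual.inD B (B ⧸ I) ⟶ (Dual.inD B B)⟦i⟧ =>
      DerivedCategory.TStructure.t.zero_of_isLE_of_isGE φ 0 (-i) (by omega) h1 h2
    exact (hz f).trans (hz g).symm
  · haveI := (tildeD_full_faithful_essImage (R := CommRingCat.of B)).2.1
    let T := DCoh.tildeD (CommRingCat.of B)
    let s := (tilde.functor (CommRingCat.of B)).mapDerivedCategorySingleFunctor 0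
    haveI : IsLocallyNoetherian (Spec (CommRingCat.of B)) := inferInstance
    haveI : ((tilde.functor (CommRingCat.of B)).obj (ModuleCat.of B B)).IsQuasicoherent :=
      inferInstanceAs (tilde (R := CommRingCat.of B) (ModuleCat.of B B)).IsQuasicoherent
    haveI := ExtVanishReg20.hasInjectiveDimensionLT_of_regular_scheme hreg d hd
      ((tilde.functor (CommRingCat.of B)).obj (ModuleCat.of B B)) ‹_›
    refine subsingleton_of_forall_eq 0 fun f => T.map_injective ?_
    rw [Functor.map_zero, ← cancel_mono ((T.commShiftIso i).hom.app (Dual.inD B B)),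
      ← cancel_mono ((shiftFunctor _ i).map (s.app (ModuleCat.of B B)).hom),
      ← cancel_epi ((s.app (ModuleCat.of B (B ⧸ I))).inv)]
    refine (ExtVanishReg20.hom_shift_eq_zero _ _ d i hi _).trans ?_
    simp

variable {k : Type u} [Field k] {X : Scheme.{u}} [IsLocallyNoetherian X]
  (e : Spec (CommRingCat.of k) ⟶ X) [IsClosedImmersion e]

set_option quotPrecheck false in
local notation "kₑ" => Functor.obj (Scheme.Modules.pushforward e) (Coh.structureModule (Spec (CommRingCat.of k)))
local notation "e₀" => e (IsLocalRing.closedPoint k)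

theorem support_point : CohB1.support kₑ ⊆ {e₀} := by
  intro x hx
  have h := QCoh.support_pushforward_subset_range e (Coh.structureModule (Spec (CommRingCat.of k))) hx
  obtain ⟨w, rfl⟩ := h
  obtain rfl : w = IsLocalRing.closedPoint k := Subsingleton.elim (α := PrimeSpectrum k) _ _
  rfl

/-- Regular parameters near a rational point. -/
theorem exists_chart (g : ℕ) [IsRegularLocalRing (X.presheaf.stalk e₀)]
    (hg : ringKrullDim (X.presheaf.stalk e₀) = g) :
    ∃ U : X.affineOpens, e₀ ∈ U.1 ∧ ∃ rs : List Γ(X, U.1), IsRegular Γ(X, U.1) rs ∧ rs.length = g ∧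
      e.ker.ideal U = Ideal.ofList rs := by
  let p := IsLocalRing.closedPoint k
  haveI : IsRegularLocalRing ((Spec (CommRingCat.of k)).presheaf.stalk p) :=
    Groth.Agent.Lib.AlgMisc.GeomRegAt.isRegularLocalRing_stalk_Spec_field k p
  obtain ⟨rs, hreg, hk⟩ := RegSeqLoc.exists_isRegular_ker (e.stalkMap p).hom (e.stalkMap_surjective p)
  obtain ⟨U, hU, rs', hreg', hker⟩ := (RegSeqLoc.exists_affine_iff e p).2 ⟨rs, hreg, hk⟩
  refine ⟨U, hU, rs', hreg', ?_, hker⟩
  -- count the parameters
  have hk' := RegSeqLoc.ker_stalkMap e p U hU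
  rw [hker, Ideal.map_ofList] at hk'
  have hr := RegSeqLoc.isRegular_stalk U.2 hU hreg'.toIsWeaklyRegular (hk'.symm.le.trans
    (IsLocalRing.le_maximalIdeal (RingHom.ker_ne_top _)))
  have hF : IsField ((Spec (CommRingCat.of k)).presheaf.stalk p) := by
    letI : Algebra k ((Spec (CommRingCat.of k)).presheaf.stalk p) := StructureSheaf.stalkAlgebra (R := k) p
    haveI : IsLocalization (PrimeSpectrum.asIdeal p).primeCompl ((Spec (CommRingCat.of k)).presheaf.stalk p) :=
      StructureSheaf.IsLocalization.to_stalk (R := k) p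
    exact MulEquiv.isField (Field.toIsField k)
      (IsLocalization.atUnits k (PrimeSpectrum.asIdeal p).primeCompl fun z hz =>
        isUnit_iff_ne_zero.mpr fun h => hz (h ▸ (PrimeSpectrum.asIdeal p).zero_mem)).toRingEquiv.symm.toMulEquiv
  have hmax : (RingHom.ker (e.stalkMap p).hom).IsMaximal :=
    Ideal.Quotient.maximal_of_isField _
      (MulEquiv.isField hF (RingHom.quotientKerEquivOfSurjective (e.stalkMap_surjective p)).toMulEquiv)
  rw [hk'] at hmax
  have hd := ringKrullDim_add_length_eq_ringKrullDim_of_isRegular _ hr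
  rw [hg, List.length_map, ringKrullDim_eq_zero_of_isField ((Ideal.Quotient.maximal_ideal_iff_isField_quotient _).1 hmax),
    zero_add] at hd
  exact_mod_cast hd

theorem isZero_of_single (M : X.Modules) {V : Scheme.{u}} (j : V ⟶ X) [IsOpenImmersion j]
    (h : IsZero ((Scheme.Modules.restrictFunctor j).obj M)) :
    IsZero ((resD j).obj (DerivedCategory.Q.obj ((single X.Modules (ComplexShape.up ℤ) 0).obj M))) :=
  (DerivedCategory.Q.map_isZero ((single _ (ComplexShape.up ℤ) 0).map_isZero h)).of_iso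
    (KSix19.nonempty_resD_single j M).some

/-- The point, on an affine chart. -/
theorem nonempty_restrict_point (U : X.affineOpens) (hU : e₀ ∈ U.1) :
    Nonempty ((Scheme.Modules.restrictFunctor (U.2.isoSpec.inv ≫ U.1.ι)).obj kₑ ≅
      (tilde.functor Γ(X, U.1)).obj (ModuleCat.of Γ(X, U.1) (Γ(X, U.1) ⧸ e.ker.ideal U))) := by
  haveI : IsAffine U.1.toScheme := U.2
  have hW : IsAffineOpen (e ⁻¹ᵁ U.1) := isAffine_of_isAffineHom (e ∣_ U.1)
  obtain ⟨c⟩ := KSix19.nonempty_push_unit_iso e U.2 hW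
  let φ := (e.app U.1).hom
  let N := (ModuleCat.restrictScalars.{u} φ).obj (ModuleCat.of Γ(Spec (CommRingCat.of k), e ⁻¹ᵁ U.1) Γ(Spec (CommRingCat.of k), e ⁻¹ᵁ U.1))
  let l : Γ(X, U.1) →ₗ[Γ(X, U.1)] N :=
    { toFun := fun t => (φ t : Γ(Spec (CommRingCat.of k), e ⁻¹ᵁ U.1))
      map_add' := fun a b => map_add φ a b
      map_smul' := fun a b => map_mul φ a b }
  have hl : LinearMap.ker l = e.ker.ideal U := by
    rw [e.ker_apply]; rfl
  let eN : (Γ(X, U.1) ⧸ e.ker.ideal U) ≃ₗ[Γ(X, U.1)] N :=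
    (Submodule.quotEquivOfEq _ _ hl.symm).trans
      (l.quotKerEquivOfSurjective (KSix19.surjective_app_of_isClosedImmersion e U.2 hW))
  exact ⟨(Scheme.Modules.restrictFunctorComp U.2.isoSpec.inv U.1.ι).app _ ≪≫
    (Scheme.Modules.restrictFunctor U.2.isoSpec.inv).mapIso
      ((pushRestrictIso e U.1).app (Coh.structureModule (Spec (CommRingCat.of k))) ≪≫
        (Scheme.Modules.pushforward (e ∣_ U.1)).mapIso
          ((Scheme.Modules.restrictFunctorIsoPullback (e ⁻¹ᵁ U.1).ι).app _ ≪≫ pullUnitIso _) ≪≫ c) ≪≫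
    ((Scheme.Modules.restrictFunctorComp U.2.isoSpec.inv U.2.isoSpec.hom).symm ≪≫
      Scheme.Modules.restrictFunctorCongr U.2.isoSpec.inv_hom_id ≪≫ Scheme.Modules.restrictFunctorId).app _ ≪≫
    (tilde.functor Γ(X, U.1)).mapIso eN.symm.toModuleIso⟩

/-- The cohomology of `RHom(k_e, O)` at a regular rational point of height `g`. -/
theorem rhom_point (hreg : ∀ x : X, IsRegularLocalRing (X.presheaf.stalk x)) (d : ℕ)
    (hd : topologicalKrullDim X ≤ d) (g : ℕ) (hg : ringKrullDim (X.presheaf.stalk e₀) = g)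
    [DCoh.HasLTensorCx ((single X.Modules (ComplexShape.up ℤ) 0).obj kₑ)]
    [DCoh.HasRSheafHom ((single X.Modules (ComplexShape.up ℤ) 0).obj kₑ)] :
    (∀ p : ℤ, p ≠ (g : ℤ) → IsZero (DCoh.HD ((DCoh.RSheafHom ((single X.Modules (ComplexShape.up ℤ) 0).obj kₑ)).obj
        (DCoh.inD X (Coh.structureModule X))) p)) ∧
      Nonempty (DCoh.HD ((DCoh.RSheafHom ((single X.Modules (ComplexShape.up ℤ) 0).obj kₑ)).obj
        (DCoh.inD X (Coh.structureModule X))) (g : ℤ) ≅ kₑ) := by
  haveI := hreg e₀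
  obtain ⟨U, hU, rs, hrs, hlen, hker⟩ := exists_chart e g hg
  let B : CommRingCat.{u} := Γ(X, U.1)
  haveI : IsNoetherianRing (B : Type u) := IsLocallyNoetherian.component_noetherian U
  haveI : PreservesFiniteLimits (tilde.functor B) := QCoh.tildeFunctor_preservesFiniteLimits
  let j : Spec B ⟶ X := U.2.isoSpec.inv ≫ U.1.ι
  let K := (single X.Modules (ComplexShape.up ℤ) 0).obj kₑ
  let R := (DCoh.RSheafHom K).obj (DCoh.inD X (Coh.structureModule X))
  let V : X.Opens := ⟨(Set.range e)ᶜ, e.isClosedEmbedding.isClosed_range.isOpen_compl⟩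
  have hsupp : ∀ p, CohB1.support (DCoh.HD R p) ⊆ {e₀} := fun p => by
    have hz : IsZero ((Scheme.Modules.restrictFunctor V.ι).obj kₑ) :=
      isZero_restrict_of_support V.ι fun y hy => y.2 (by
        have hy' : y.1 = e₀ := support_point e hy
        rw [hy']; exact ⟨_, rfl⟩)
    have h := (isZero_resD_iff_support V.ι R).1
      (RightAdj22.isZero_resD_RSheafHom V.ι K (isZero_of_single _ V.ι hz) _) p
    intro x hx
    have h2 : x ∈ Set.range e := by
      by_contra h3
      exact h hx ⟨⟨x, h3⟩, rfl⟩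
    obtain ⟨w, rfl⟩ := h2
    obtain rfl : w = IsLocalRing.closedPoint k := Subsingleton.elim (α := PrimeSpectrum k) _ _
    rfl
  have hC : IsClosed ({e₀} : Set X) := by
    have : ({e₀} : Set X) = Set.range e := by
      refine Set.ext fun x => ⟨fun h => ⟨_, h.symm⟩, ?_⟩
      rintro ⟨w, rfl⟩
      obtain rfl : w = IsLocalRing.closedPoint k := Subsingleton.elim (α := PrimeSpectrum k) _ _
      rfl
    rw [this]; exact e.isClosedEmbedding.isClosed_range
  have hCj : ({e₀} : Set X) ⊆ Set.range j := by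
    rintro x rfl
    exact ⟨U.2.isoSpec.hom ⟨e₀, hU⟩, by
      show (U.2.isoSpec.hom ≫ U.2.isoSpec.inv ≫ U.1.ι) ⟨e₀, hU⟩ = _
      rw [Iso.hom_inv_id_assoc]
      rfl⟩
  -- on the chart
  let Bm : Type u := B
  let N := ModuleCat.of Bm (Bm ⧸ Ideal.ofList rs)
  obtain ⟨eP⟩ : Nonempty ((Scheme.Modules.restrictFunctor j).obj kₑ ≅ (tilde.functor B).obj N) := by
    have h := nonempty_restrict_point e U hU
    rw [hker] at h
    exact h
  let Kc : DRing.Cx Bm := (single (ModuleCat.{u} Bm) (ComplexShape.up ℤ) 0).obj N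
  let eK : DRing.toD Kc ≅ Dual.inD Bm (Bm ⧸ Ideal.ofList rs) :=
    ((DerivedCategory.singleFunctorIsoCompQ (ModuleCat.{u} Bm) 0).app N).symm
  haveI := RH.hasRHomCx Kc
  haveI := hasLTensorCx ((resCx j).obj K)
  haveI := hasRSheafHom ((resCx j).obj K)
  obtain ⟨r⟩ := nonempty_resD_RSheafHom j (K := K)
  have hregB : ∀ x : Spec B, IsRegularLocalRing ((Spec B).presheaf.stalk x) := fun x =>
    haveI := hreg (j x)
    IsRegularLocalRing.of_ringEquiv (asIso (j.stalkMap x)).commRingCatIsoToRingEquiv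
  have hL : DRing.HasFiniteInjDim Bm (Dual.inD Bm Bm) :=
    hasFiniteInjDim_self Bm hregB d ((j.isOpenEmbedding.isInducing.topologicalKrullDim_le).trans hd)
  have hfin : ∀ i : ℤ, Module.Finite Bm (Dual.HD Bm (DRing.toD Kc) i) := fun i => by
    refine @Module.Finite.equiv _ (Dual.HD Bm (Dual.inD Bm (Bm ⧸ Ideal.ofList rs)) i) _ _ _ _ _ _ ?_
      ((DerivedCategory.homologyFunctor (ModuleCat.{u} Bm) i).mapIso eK.symm).toLinearEquiv
    by_cases hi : i = 0
    · subst hi
      haveI : Module.Finite Bm ↑((𝟭 (ModuleCat.{u} Bm)).obj N) :=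
        inferInstanceAs (Module.Finite Bm (Bm ⧸ Ideal.ofList rs))
      exact Module.Finite.equiv ((DerivedCategory.singleFunctorCompHomologyFunctorIso (ModuleCat.{u} Bm) 0).app
        N).toLinearEquiv.symm
    · haveI := ModuleCat.subsingleton_of_isZero (show IsZero ((DerivedCategory.homologyFunctor (ModuleCat.{u} Bm) i).obj (Dual.inD Bm (Bm ⧸ Ideal.ofList rs))) by
        rcases lt_or_gt_of_ne hi with h | h
        · exact DerivedCategory.isZero_of_isGE _ 0 i h
        · exact DerivedCategory.isZero_of_isLE _ 0 i h)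
      exact Module.Finite.of_finite
  let eE : DerivedCategory.Q.obj ((resCx j).obj K) ≅ (DCoh.tildeD B).obj (DRing.toD Kc) :=
    DerivedCategory.Q.mapIso
      ((singleMapHomologicalComplex (Scheme.Modules.restrictFunctor j) (ComplexShape.up ℤ) 0).app kₑ ≪≫
        (single _ (ComplexShape.up ℤ) 0).mapIso eP) ≪≫
    ((tilde.functor B).mapDerivedCategoryFactors.app _ ≪≫ DerivedCategory.Q.mapIso
      ((singleMapHomologicalComplex (tilde.functor B) (ComplexShape.up ℤ) 0).app N)).symm
  obtain ⟨t⟩ := RHomInj22.nonempty_RSheafHom_tilde (R := B) Kc hfin (Dual.inD Bm Bm) hL ((resCx j).obj K) eE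
  let eO : (resD j).obj (DCoh.inD X (Coh.structureModule X)) ≅ (DCoh.tildeD B).obj (Dual.inD Bm Bm) :=
    ((Scheme.Modules.restrictFunctor j).mapDerivedCategorySingleFunctor 0).app _ ≪≫
      (DerivedCategory.singleFunctor (Spec B).Modules 0).mapIso (DualRing.restrictStructureIso j) ≪≫
      (TorBC25.tildeUnitD Bm).symm
  let eH : ∀ p : ℤ, (Scheme.Modules.restrictFunctor j).obj (DCoh.HD R p) ≅
      (tilde.functor B).obj ((DerivedCategory.homologyFunctor (ModuleCat.{u} Bm) p).obj ((DRing.RHomCx Kc).obj (Dual.inD Bm Bm))) := fun p =>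
    (HDResIso j R p).symm ≪≫
      (DerivedCategory.homologyFunctor _ p).mapIso (r.app _ ≪≫ (DCoh.RSheafHom _).mapIso eO ≪≫ t) ≪≫
      HDTildeIso (R := B) _ p
  obtain ⟨h0, ⟨hgi⟩⟩ := HD_RHom_quot rs hrs.toIsWeaklyRegular hL Kc eK
  rw [hlen] at h0 hgi
  refine ⟨fun p hp => ?_, nonempty_iso_of_restrict j _ _ hC hCj (hsupp _) (support_point e)
    (eH _ ≪≫ (tilde.functor B).mapIso hgi.toModuleIso ≪≫ eP.symm)⟩
  haveI := h0 p hp
  have hz : IsZero ((Scheme.Modules.restrictFunctor j).obj (DCoh.HD R p)) :=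
    ((tilde.functor B).map_isZero (ModuleCat.isZero_of_subsingleton _)).of_iso (eH p)
  haveI := isIso_unit_of_support j (DCoh.HD R p) hC hCj (hsupp p)
  exact ((Scheme.Modules.pushforward j).map_isZero hz).of_iso
    (asIso ((Scheme.Modules.restrictAdjunction j).unit.app (DCoh.HD R p)))

end GrothLib.SkyDual15
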