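import Groth.Agent.Lib.SkyDual15.Tri
import Groth.Agent.Lib.OX.HomTri
import Groth.Agent.Lib.OX.KFlat
import Groth.Agent.Lib.OX.Resolution
import Mathlib.CategoryTheory.Triangulated.Functor
import Mathlib.Algebra.Homology.DerivedCategory.Ext.ExtClass

/-!
# The triangle of `RHom(-, L)` on a short exact sequence of modules
-/

set_option autoImplicit false
set_option maxHeartbeats 1000000
set_option backward.isDefEq.respectTransparency false
set_option linter.style.haveILetI false
universe u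

open CategoryTheory CategoryTheory.Limits CategoryTheory.Pretriangulated AlgebraicGeometry HomologicalComplex

attribute [local instance] HasDerivedCategory.standard

namespace GrothLib.SkyDual15

open GrothLib.OX

variable {X : Scheme.{u}}

/-- The comparison of third objects commutes with the last maps. -/
theorem comm₃_of_iso {C : Type*} [Category C] [HasShift C ℤ] {T T' : Triangle C} (E : T ≅ T')
    (a : T.obj₁ = T'.obj₁) (h : E.hom.hom₁ = eqToHom a) :
    T.mor₃ ≫ (shiftFunctor C (1 : ℤ)).map (eqToHom a) = E.hom.hom₃ ≫ T'.mor₃ := by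
  rw [← h]; exact E.hom.comm₃

theorem singleIso_hom_f (L : CochainComplex X.Modules ℤ) (F : X.Modules) (q : ℤ) :
    (singleIso L F).hom.f q = ((DCoh.tensorBi (X := X)).obj (L.X q)).map (singleObjXSelf (ComplexShape.up ℤ) 0 F).inv ≫
      ιMapBifunctor L _ (DCoh.tensorBi (X := X)) (ComplexShape.up ℤ) q 0 q (add_zero q) := rfl

theorem tensor_map_f (L : CochainComplex X.Modules ℤ) {M N : CochainComplex X.Modules ℤ} (p : M ⟶ N) (q : ℤ) :
    (((DCoh.tensorCx (X := X)).obj L).map p).f q =
      (mapBifunctorMap (𝟙 L) p (DCoh.tensorBi (X := X)) (ComplexShape.up ℤ)).f q := rfl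

/-- A test map between modules in single degrees. -/
theorem isIso_tensor_single_map {M A B : X.Modules} (n : ℤ) (g : A ⟶ B)
    (hg : IsIso (((DCoh.tensorBi (X := X)).obj M).map g)) :
    IsIso (((DCoh.tensorCx (X := X)).obj ((single X.Modules (ComplexShape.up ℤ) n).obj M)).map
      ((single X.Modules (ComplexShape.up ℤ) 0).map g)) := by
  let T0 := (single X.Modules (ComplexShape.up ℤ) n).obj M
  let ν := (NatTrans.mapHomologicalComplex ((DCoh.tensorBi (X := X)).flip.map g) (ComplexShape.up ℤ)).app T0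
  have hnat : ν ≫ (singleIso T0 B).hom = (singleIso T0 A).hom ≫
      ((DCoh.tensorCx (X := X)).obj T0).map ((single X.Modules (ComplexShape.up ℤ) 0).map g) := by
    refine HomologicalComplex.hom_ext _ _ fun q => ?_
    rw [HomologicalComplex.comp_f, HomologicalComplex.comp_f, singleIso_hom_f, singleIso_hom_f, tensor_map_f,
      Category.assoc, HomologicalComplex.ι_mapBifunctorMap]
    simp only [HomologicalComplex.id_f, CategoryTheory.Functor.map_id, NatTrans.id_app, Category.id_comp, ν,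
      NatTrans.mapHomologicalComplex_app_f, Functor.flip_map_app]
    rw [← Category.assoc, ← Category.assoc, ← Functor.map_comp, ← Functor.map_comp]
    congr 2
  haveI : ∀ q, IsIso (ν.f q) := fun q => by
    have hν : ν.f q = ((DCoh.tensorBi (X := X)).obj (T0.X q)).map g :=
      NatTrans.mapHomologicalComplex_app_f _ _ T0 q
    rw [hν]
    by_cases hq : q = n
    · have e : T0.X q ≅ M := eqToIso (congrArg T0.X hq) ≪≫ singleObjXSelf (ComplexShape.up ℤ) n M
      have hc : ((DCoh.tensorBi (X := X)).obj (T0.X q)).map g = ((DCoh.tensorBi (X := X)).map e.hom).app A ≫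
          ((DCoh.tensorBi (X := X)).obj M).map g ≫ ((DCoh.tensorBi (X := X)).map e.inv).app B := by
        rw [← NatTrans.naturality_assoc, ← NatTrans.comp_app, ← Functor.map_comp, Iso.hom_inv_id,
          CategoryTheory.Functor.map_id, NatTrans.id_app, Category.comp_id]
      rw [hc]
      haveI := hg
      infer_instance
    · have hz : ∀ Y, IsZero (((DCoh.tensorBi (X := X)).obj (T0.X q)).obj Y) := fun Y =>
        ((DCoh.tensorBi (X := X)).flip.obj Y).map_isZero (isZero_single_obj_X _ n _ q hq)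
      exact ⟨0, (hz A).eq_of_src _ _, (hz B).eq_of_src _ _⟩
  haveI : IsIso ν := HomologicalComplex.Hom.isIso_of_components _
  haveI : IsIso ((singleIso T0 A).hom ≫
      ((DCoh.tensorCx (X := X)).obj T0).map ((single X.Modules (ComplexShape.up ℤ) 0).map g)) := by
    rw [← hnat]; infer_instance
  exact IsIso.of_isIso_comp_left (singleIso T0 A).hom _

/-- A resolution stays one after tensoring with a K-flat complex on the right. -/
theorem isIso_Q_tensor_right {A B : CochainComplex X.Modules ℤ} (q : A ⟶ B) [QuasiIso q]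
    (U : CochainComplex X.Modules ℤ) (hU : DCoh.IsKFlat U) :
    IsIso (DerivedCategory.Q.map (((DCoh.tensorCx (X := X)).map q).app U)) := by
  have τ := tensorCxSymm_natural q U
  haveI := quasiIso_tensor_map_of_isKFlat q U hU
  haveI : IsIso (DerivedCategory.Q.map (((DCoh.tensorCx (X := X)).map q).app U ≫ (tensorCxSymm U B).hom)) := by
    rw [τ, Functor.map_comp]; infer_instance
  rw [Functor.map_comp] at this
  exact IsIso.of_isIso_comp_right _ (DerivedCategory.Q.map (tensorCxSymm U B).hom)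

/-- The composite test map is invertible in the derived category. -/
theorem isIso_test {A T0 K₂ K₃ U V : CochainComplex X.Modules ℤ} (hA : DCoh.IsKFlat A) (qA : A ⟶ T0) [QuasiIso qA]
    (g : K₂ ⟶ K₃) (h : K₃ ⟶ V) (p : U ⟶ V) (hU : DCoh.IsKFlat U)
    (e₂ : DerivedCategory.Q.obj K₂ ≅ DerivedCategory.Q.obj U)
    (hQ : DerivedCategory.Q.map (g ≫ h) = e₂.hom ≫ DerivedCategory.Q.map p)
    (hp : IsIso (((DCoh.tensorCx (X := X)).obj T0).map p)) :
    IsIso (DerivedCategory.Q.map (((DCoh.tensorCx (X := X)).obj A).map g ≫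
      ((DCoh.tensorCx (X := X)).obj A).map h ≫ ((DCoh.tensorCx (X := X)).map qA).app V)) := by
  let F : CochainComplex X.Modules ℤ ⥤ DCoh.D X := (DCoh.tensorCx (X := X)).obj A ⋙ DerivedCategory.Q
  have hF : (HomologicalComplex.quasiIso X.Modules (ComplexShape.up ℤ)).IsInvertedBy F := fun K K' r hr => by
    haveI : QuasiIso r := hr
    haveI := quasiIso_tensor_map_of_isKFlat r A hA
    exact inferInstanceAs (IsIso (DerivedCategory.Q.map (((DCoh.tensorCx (X := X)).obj A).map r)))
  let G := CategoryTheory.Localization.lift F hF DerivedCategory.Q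
  let φG := CategoryTheory.Localization.fac F hF DerivedCategory.Q
  haveI := isIso_Q_tensor_right qA U hU
  have h1 : F.map (g ≫ h) = (φG.inv.app K₂ ≫ G.map e₂.hom ≫ φG.hom.app U) ≫ F.map p := by
    have n1 : G.map (DerivedCategory.Q.map (g ≫ h)) ≫ φG.hom.app V = φG.hom.app K₂ ≫ F.map (g ≫ h) :=
      φG.hom.naturality (g ≫ h)
    have n2 : G.map (DerivedCategory.Q.map p) ≫ φG.hom.app V = φG.hom.app U ≫ F.map p := φG.hom.naturality p
    rw [Category.assoc, Category.assoc, ← n2, ← G.map_comp_assoc, ← hQ, n1, Iso.inv_hom_id_app_assoc]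
  have h2 : DerivedCategory.Q.map (((DCoh.tensorCx (X := X)).obj A).map g ≫
      ((DCoh.tensorCx (X := X)).obj A).map h ≫ ((DCoh.tensorCx (X := X)).map qA).app V) =
      (φG.inv.app K₂ ≫ G.map e₂.hom ≫ φG.hom.app U) ≫
        DerivedCategory.Q.map (((DCoh.tensorCx (X := X)).map qA).app U) ≫
        DerivedCategory.Q.map (((DCoh.tensorCx (X := X)).obj T0).map p) := by
    rw [← Category.assoc, ← Functor.map_comp ((DCoh.tensorCx (X := X)).obj A), Functor.map_comp]
    refine (congrArg (· ≫ _) h1).trans ?_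
    rw [Category.assoc]
    refine congrArg (_ ≫ ·) ?_
    show DerivedCategory.Q.map _ ≫ _ = _
    rw [← Functor.map_comp, ← Functor.map_comp, NatTrans.naturality]
  rw [h2]
  infer_instance

/-- **The triangle of `RHom(-, L)`, whose first map is nonzero when seen through a self-flat test module.** -/
theorem exists_rhom_triangle_test {S : ShortComplex X.Modules} (hS : S.ShortExact) (h₂ : FlatMod.IsFlat S.X₂)
    (L : DCoh.D X)
    [DCoh.HasLTensorCx ((single X.Modules (ComplexShape.up ℤ) 0).obj S.X₁)]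
    [DCoh.HasRSheafHom ((single X.Modules (ComplexShape.up ℤ) 0).obj S.X₁)]
    [DCoh.HasLTensorCx ((single X.Modules (ComplexShape.up ℤ) 0).obj S.X₂)]
    [DCoh.HasRSheafHom ((single X.Modules (ComplexShape.up ℤ) 0).obj S.X₂)]
    [DCoh.HasLTensorCx ((single X.Modules (ComplexShape.up ℤ) 0).obj S.X₃)]
    [DCoh.HasRSheafHom ((single X.Modules (ComplexShape.up ℤ) 0).obj S.X₃)] :
    ∃ T : Triangle (DCoh.D X), T ∈ distTriang (DCoh.D X) ∧
      Nonempty (T.obj₁ ≅ (DCoh.RSheafHom ((single X.Modules (ComplexShape.up ℤ) 0).obj S.X₃)).obj L) ∧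
      Nonempty (T.obj₂ ≅ (DCoh.RSheafHom ((single X.Modules (ComplexShape.up ℤ) 0).obj S.X₂)).obj L) ∧
      Nonempty (T.obj₃ ≅ (DCoh.RSheafHom ((single X.Modules (ComplexShape.up ℤ) 0).obj S.X₁)).obj L) ∧
      (IsIso (((DCoh.tensorBi (X := X)).obj S.X₃).map S.g) → T.mor₁ = 0 →
        ∀ (n : ℤ) (f : DerivedCategory.Q.obj (((DCoh.tensorCx (X := X)).obj ((single X.Modules (ComplexShape.up ℤ) n).obj S.X₃)).obj
          ((single X.Modules (ComplexShape.up ℤ) 0).obj S.X₃)) ⟶ L), f = 0) := by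
  let s := single X.Modules (ComplexShape.up ℤ) 0
  let φ := DerivedCategory.singleFunctorIsoCompQ X.Modules 0
  obtain ⟨P, q, hP, -, hq, -⟩ := exists_kflat_resolution (s.obj S.X₁)
  let α : P ⟶ s.obj S.X₂ := q ≫ s.map S.f
  let C := CochainComplex.mappingCone α
  have hC : DCoh.IsKFlat C := isKFlat_mappingCone α hP (isKFlat_single _ h₂ 0)
  let T₁ := DerivedCategory.Q.mapTriangle.obj (CochainComplex.mappingCone.triangle α)
  obtain ⟨e₃⟩ := nonempty_obj₃_iso T₁ hS.singleTriangle (Q_mapTriangle_cone α) hS.singleTriangle_distinguished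
    (asIso (DerivedCategory.Q.map q) ≪≫ (φ.app S.X₁).symm) (φ.app S.X₂).symm (by
      show DerivedCategory.Q.map α ≫ φ.inv.app S.X₂ =
        (DerivedCategory.Q.map q ≫ φ.inv.app S.X₁) ≫ (DerivedCategory.singleFunctor X.Modules 0).map S.f
      rw [Category.assoc, Functor.map_comp, Category.assoc]
      exact congrArg (_ ≫ ·) (φ.inv.naturality S.f))
  let t := (CochainComplex.mappingCone.triangle α).invRotate
  let γ : C⟦(-1 : ℤ)⟧ ⟶ P := t.mor₁
  have hγ : DerivedCategory.Q.mapTriangle.obj t ∈ distTriang (DCoh.D X) :=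
    isomorphic_distinguished _ (inv_rot_of_distTriang _ (Q_mapTriangle_cone α)) _
      ((DerivedCategory.Q.mapTriangleInvRotateIso).app (CochainComplex.mappingCone.triangle α)).symm
  let E := isoTriangleOfIso₁₂ (DerivedCategory.Q.mapTriangle.obj (CochainComplex.mappingCone.triangle γ))
    (DerivedCategory.Q.mapTriangle.obj t) (Q_mapTriangle_cone γ) hγ (Iso.refl _) (Iso.refl _)
    ((Category.comp_id _).trans (Category.id_comp _).symm)
  let e₂ := Triangle.π₃.mapIso E
  let K₂ := CochainComplex.mappingCone γ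
  let K₃ := (C⟦(-1 : ℤ)⟧)⟦(1 : ℤ)⟧
  let i₁ : DerivedCategory.Q.obj P ≅ DerivedCategory.Q.obj (s.obj S.X₁) := asIso (DerivedCategory.Q.map q)
  let i₂ : DerivedCategory.Q.obj K₂ ≅ DerivedCategory.Q.obj (s.obj S.X₂) := e₂
  let i₃ : DerivedCategory.Q.obj K₃ ≅ DerivedCategory.Q.obj (s.obj S.X₃) :=
    DerivedCategory.Q.mapIso ((shiftFunctorCompIsoId (CochainComplex X.Modules ℤ) (-1 : ℤ) 1 (by omega)).app C) ≪≫
      e₃ ≪≫ φ.app S.X₃
  have hP₂ : DCoh.IsKFlat K₂ := isKFlat_mappingCone γ (isKFlat_shift hC _) hP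
  have hP₃ : DCoh.IsKFlat K₃ := isKFlat_shift (isKFlat_shift hC _) _
  haveI := hasLTensorCx P
  haveI := hasLTensorCx K₂
  haveI := hasLTensorCx K₃
  haveI := hasRSheafHom_of_isKFlat P hP
  haveI := hasRSheafHom_of_isKFlat K₂ hP₂
  haveI := hasRSheafHom_of_isKFlat K₃ hP₃
  obtain ⟨I, r, hr, hI, -⟩ := KInj.exists_kInjective_resolution _ (DerivedCategory.Q.objPreimage L)
  haveI := hI
  let eL : DerivedCategory.Q.obj I ≅ L :=
    (asIso (DerivedCategory.Q.map r)).symm ≪≫ DerivedCategory.Q.objObjPreimageIso L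
  refine ⟨_, homTriangle_distinguished (S := coneShortComplex γ) (coneSplitting γ) I, ?_, ?_, ?_, ?_⟩
  · obtain ⟨v⟩ := nonempty_RSheafHom_value K₃ hP₃ I
    obtain ⟨c⟩ := nonempty_RSheafHom_congr i₃
    exact ⟨v.symm ≪≫ (DCoh.RSheafHom K₃).mapIso eL ≪≫ c.app L⟩
  · obtain ⟨v⟩ := nonempty_RSheafHom_value K₂ hP₂ I
    obtain ⟨c⟩ := nonempty_RSheafHom_congr i₂
    exact ⟨v.symm ≪≫ (DCoh.RSheafHom K₂).mapIso eL ≪≫ c.app L⟩
  · obtain ⟨v⟩ := nonempty_RSheafHom_value P hP I
    obtain ⟨c⟩ := nonempty_RSheafHom_congr i₁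
    exact ⟨v.symm ≪≫ (DCoh.RSheafHom P).mapIso eL ≪≫ c.app L⟩
  · intro hiso hmor n f
    let g : K₂ ⟶ K₃ := (coneShortComplex γ).g
    let c : K₃ ≅ C := (shiftFunctorCompIsoId (CochainComplex X.Modules ℤ) (-1 : ℤ) 1 (by omega)).app C
    let qC : C ⟶ s.obj S.X₃ := CochainComplex.mappingCone.desc α 0 (s.map S.g) (by
      simp [α, ← Functor.map_comp, S.zero])
    let ι : s.obj S.X₂ ⟶ C := CochainComplex.mappingCone.inr α
    have hqC : ι ≫ qC = s.map S.g := CochainComplex.mappingCone.inr_desc ..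
    have hg : DerivedCategory.Q.map g = e₂.hom ≫ DerivedCategory.Q.map (ι ≫ c.inv) := by
      have h := comm₃_of_iso E rfl rfl
      rw [eqToHom_refl, CategoryTheory.Functor.map_id] at h
      have h' : DerivedCategory.Q.map g ≫ (DerivedCategory.Q.commShiftIso (1 : ℤ)).hom.app (C⟦(-1 : ℤ)⟧) =
          e₂.hom ≫ DerivedCategory.Q.map (ι ≫ c.inv) ≫
            (DerivedCategory.Q.commShiftIso (1 : ℤ)).hom.app (C⟦(-1 : ℤ)⟧) := (Category.comp_id _).symm.trans h
      rw [← Category.assoc] at h'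
      exact (cancel_mono _).1 h'
    have hQ : DerivedCategory.Q.map (g ≫ c.hom ≫ qC) = e₂.hom ≫ DerivedCategory.Q.map (s.map S.g) := by
      rw [Functor.map_comp, hg, Category.assoc, ← Functor.map_comp, Category.assoc, Iso.inv_hom_id_assoc, hqC]
    obtain ⟨A, qA, hA, -, hqA, -⟩ := exists_kflat_resolution ((single X.Modules (ComplexShape.up ℤ) n).obj S.X₃)
    haveI : QuasiIso qA := hqA
    have hr := isIso_test hA qA g (c.hom ≫ qC) (s.map S.g) (isKFlat_single _ h₂ 0) e₂ hQ
      (isIso_tensor_single_map n S.g hiso)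
    let r₀ := ((DCoh.tensorCx (X := X)).obj A).map (c.hom ≫ qC) ≫ ((DCoh.tensorCx (X := X)).map qA).app (s.obj S.X₃)
    -- every map factors through the first map of the triangle
    haveI : ((homCx K₂).obj I).IsKInjective := isKInjective_homCx hP₂ I
    obtain ⟨h0⟩ := nonempty_homotopy_of_Q_map_eq_zero (c := homMap g I) hmor
    obtain ⟨w, hw⟩ := Q_map_surjective (I := I)
      (DerivedCategory.Q.map r₀ ≫ f ≫ eL.inv)
    obtain ⟨h1⟩ := transpose_symm_null ((h0.compLeft ((homCxAdj K₃).homEquiv A I w)).trans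
      (Homotopy.ofEq comp_zero))
    rw [homEquiv_homMap, Equiv.symm_apply_apply, flip_map_app] at h1
    have h2 := Q_map_eq_zero_of_null h1
    rw [Functor.map_comp, hw, ← Category.assoc, ← Functor.map_comp] at h2
    have h3 : f ≫ eL.inv = 0 := (cancel_epi (DerivedCategory.Q.map (((DCoh.tensorCx (X := X)).obj A).map g ≫ r₀))).1
      (h2.trans comp_zero.symm)
    rw [← cancel_mono eL.inv, h3, zero_comp]

end GrothLib.SkyDual15
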